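import Cfsg.Agent.Lib.Spor.JankoFourPentad.Checks

/-!
Finite facts used for the involution attached to a trio in a group of Janko-four type.
-/

set_option autoImplicit false
set_option maxRecDepth 100000

namespace CfsgLib.Spor.JankoFourIso

open CfsgLib.Spor CfsgLib.Spor.JankoFourCentral CfsgLib.Spor.JankoFourPentad

/-- the first translation of the permutation part -/
def u0P : ℕ := 610933131142657984725827468219484192
/-- an involution of the symmetric group of degree three -/
def e5P : ℕ := 859922358684070172112777058827995168
/-- an element fixing the duad of the first vector and centralising the first translation -/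
def gP : ℕ := compP w0P e5P
/-- an element taking the involution of the trio to the first translation -/
def sgP : ℕ := 611401278387931148539818135381071276
/-- a vector with displacement by the first translation -/
def mP : ℕ := 4190208
/-- the three fixed points of the element of order seven -/
def xP : ℕ := 2 ^ pI ^^^ (2 ^ qI ^^^ 2 ^ rI)
/-- the element moving the first pair to the pair of the given index -/
def mvP (i : ℕ) : ℕ := compP (yEl (i % 3)) (bif Nat.blt i 3 then eP else rhoP)

theorem index_check :
    Nat.beq (uMasks.getD 0 0) u0P = true ∧ Nat.beq (vMasks.getD 3 0) 3 = true ∧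
    uMasks.length = 6 ∧ vMasks.length = 9 ∧
    Nat.beq e5P (compP sP (compP rhoP rhoP)) = true ∧ isM24P sgP = true ∧
    evB 3 = true ∧ evB 585 = true ∧ evB 586 = true ∧ evB mP = true ∧ pop 586 = 4 ∧
    wList'.any (Nat.beq w0P) = true ∧ wList'.any (Nat.beq y2P) = true := by
  decide +kernel

theorem outer_comm_check :
    Nat.beq (compP w0P sP) (compP sP w0P) = true ∧
    Nat.beq (compP w0P rhoP) (compP rhoP w0P) = true ∧
    Nat.beq (compP y2P sP) (compP sP y2P) = true ∧
    Nat.beq (compP y2P rhoP) (compP rhoP y2P) = true := by
  decide +kernel

/-- the part of the subgroup of order `2^15` fixed by the symmetric group of degree three -/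
theorem fixed_check :
    (v9List.all fun w => !(fixC sP w && fixC rhoP w) || memC zList w) = true ∧
    (uList.all fun u => !(Nat.beq (compP u sP) (compP sP u) && Nat.beq (compP u rhoP) (compP rhoP u))
      || Nat.beq u eP) = true := by
  decide +kernel

/-- the part of the subgroup of order `2^15` fixed by the element fixing the first pair -/
theorem dichotomy_check :
    fixC gP 3 = true ∧ Nat.beq (compP gP u0P) (compP u0P gP) = true ∧
    (v9List.all fun w => !fixC gP w || memC [0, 3, 585, 586] w) = true ∧
    (uList.all fun u => !Nat.beq (compP gP u) (compP u gP) || (Nat.beq u eP || Nat.beq u u0P))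
      = true := by
  decide +kernel

theorem move_check :
    ((List.range 6).all fun i =>
      inCode (Nat.xor (actP (mvP i) 3) (vMasks.getD (3 + i) 0)) &&
      Nat.beq (compP (mvP i) u0P) (compP (uMasks.getD i 0) (mvP i))) = true := by
  decide +kernel

theorem class_check :
    inCode (Nat.xor 586 (Nat.xor mP (actP u0P mP))) = true ∧
    Nat.beq (compP sgP sP) (compP u0P sgP) = true ∧
    inCode (Nat.xor (Nat.xor (Nat.xor (actP sgP 15) 3) mP) (actP u0P mP)) = true := by
  decide +kernel

theorem twist_check :
    Nat.beq (actP yP xP) xP = true ∧ Nat.beq (actP rhoP xP) xP = true ∧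
    Nat.beq (actP sP xP) xP = true ∧
    inCode (Nat.xor (Nat.xor xP (actP u0P xP)) 586) = true := by
  decide +kernel

end CfsgLib.Spor.JankoFourIso
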