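import Cfsg.Agent.Lib.Spor.JankoFourPentad.Main

/-!
The second class of complements: a complement is replaced by its image under the cocycle of a set
of points, which leaves the elementary abelian subgroup and its coordinates unchanged.
-/

set_option autoImplicit false
set_option maxRecDepth 100000
set_option linter.unusedSectionVars false

namespace CfsgLib.Spor.JankoFourIso

open Cfsg CfsgLib.Spor CfsgLib.Spor.DuadM24 CfsgLib.Spor.JankoFourCentral
  CfsgLib.Spor.JankoFourPentad CfsgLib.Spor.JankoFourSeven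
open scoped Pointwise symmDiff

universe u v

variable {G : Type u} [Group G] [Finite G] {z : G} {A : Type v} [AddCommGroup A] (D : Eleven z A)
  (X : Finset GolayPt)

theorem even_disp (σ : Equiv.Perm GolayPt) : Even (X ∆ (σ • X)).card := by
  have h := card_symmDiff_add X (σ • X)
  rw [Finset.card_smul_finset] at h
  rw [Nat.even_iff]
  omega

/-- the vector of the cocycle of a set of points -/
def disp (σ : M24) : A := D.C.S (X ∆ ((σ : Equiv.Perm GolayPt) • X))

theorem disp_mul (σ τ : M24) :
    D.L σ * D.ι (disp D X τ) * (D.L σ)⁻¹ =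
      D.ι (D.C.S (((σ : Equiv.Perm GolayPt) • X) ∆ (((σ * τ : M24) : Equiv.Perm GolayPt) • X))) := by
  rw [disp, D.L_conj σ (even_disp X _), Finset.smul_finset_symmDiff, smul_smul, Subgroup.coe_mul]

/-- the twisted lift -/
noncomputable def twL : M24 →* G :=
  MonoidHom.mk' (fun σ => D.ι (disp D X σ) * D.L σ) (fun σ τ => by
    have e : D.ι (disp D X σ) * D.L σ * (D.ι (disp D X τ) * D.L τ) =
        D.ι (disp D X σ) * (D.L σ * D.ι (disp D X τ) * (D.L σ)⁻¹) * (D.L σ * D.L τ) := by group
    rw [e, disp_mul, ← D.ι_add, ← D.L_mul]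
    simp only [disp, ← D.C.S_symmDiff]
    rw [symmDiff_assoc, symmDiff_symmDiff_cancel_left])

theorem twL_apply (σ : M24) : twL D X σ = D.ι (disp D X σ) * D.L σ := rfl

theorem twL_eq_one_of_mem {σ : M24} (h : twL D X σ ∈ D.V) : σ = 1 := by
  refine eq_of_vL D (D.ι_mem (disp D X σ)) (show twL D X σ ∈ D.V from h) ?_
  rw [D.L_one, mul_one]
  rfl

theorem twL_injective : Function.Injective (twL D X) := (injective_iff_map_eq_one _).2 fun σ h =>
  twL_eq_one_of_mem D X (by rw [h]; exact one_mem _)

theorem twL_sup : (twL D X).range ⊔ D.V = D.K ⊔ D.V := by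
  refine le_antisymm (sup_le ?_ le_sup_right) (sup_le ?_ le_sup_right)
  · rintro _ ⟨σ, rfl⟩
    exact Subgroup.mul_mem _ (Subgroup.mem_sup_right (D.ι_mem _))
      (Subgroup.mem_sup_left (D.L_mem_K σ))
  · intro g hg
    obtain ⟨σ, rfl⟩ := D.exists_L hg
    rw [show D.L σ = (D.ι (disp D X σ))⁻¹ * twL D X σ by rw [twL_apply, inv_mul_cancel_left]]
    exact Subgroup.mul_mem _ (Subgroup.mem_sup_right (inv_mem (D.ι_mem _)))
      (Subgroup.mem_sup_left ⟨σ, rfl⟩)

/-- the configuration with the twisted complement -/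
@[reducible] noncomputable def twist : Eleven z A :=
  { D with
    K := (twL D X).range
    inf := (Subgroup.eq_bot_iff_forall _).2 fun g hg => by
      obtain ⟨σ, rfl⟩ := hg.1
      rw [twL_eq_one_of_mem D X hg.2, map_one]
    sup := (twL_sup D X).trans D.sup
    cardK := by
      rw [← Nat.card_congr (MonoidHom.ofInjective (twL_injective D X)).toEquiv] }

theorem twist_V : (twist D X).V = D.V := rfl

theorem twist_vm (m : ℕ) : (twist D X).vm m = D.vm m := rfl

theorem twist_Zs : Zs (twist D X) = Zs D := rfl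

theorem twist_L (σ : M24) : (twist D X).L σ = twL D X σ := by
  obtain ⟨σ', hσ'⟩ := (twist D X).exists_L (show twL D X σ ∈ (twist D X).K from ⟨σ, rfl⟩)
  suffices h : σ' = σ by rw [← hσ', h]
  refine Subtype.ext (D.C.perm_unique fun a b => ?_)
  by_cases hab : a = b
  · subst hab; rw [D.C.two, D.C.two]
  have hev : Even ({a, b} : Finset GolayPt).card := by rw [Finset.card_pair hab]; decide
  have h1 : (twist D X).L σ' * D.ι (D.C.S {a, b}) * ((twist D X).L σ')⁻¹ =
      D.ι (D.C.S ((σ' : Equiv.Perm GolayPt) • ({a, b} : Finset GolayPt))) :=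
    (twist D X).L_conj σ' hev
  rw [hσ', twL_apply, conj_vec D (vL_mem D (D.ι_mem _) σ) hev, pr_vL D (D.ι_mem _)] at h1
  have h2 := D.ι_inj h1
  rw [Finset.smul_finset_insert, Finset.smul_finset_singleton, Finset.smul_finset_insert,
    Finset.smul_finset_singleton, Equiv.Perm.smul_def, Equiv.Perm.smul_def, Equiv.Perm.smul_def,
    Equiv.Perm.smul_def, D.C.S_pair ((σ : Equiv.Perm GolayPt).injective.ne hab),
    D.C.S_pair ((σ' : Equiv.Perm GolayPt).injective.ne hab)] at h2
  exact h2.symm

variable {D}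

theorem twist_std (hS : Std D) : Std (twist D X) := ⟨hS.hJ, hS.fuse, hS.cent⟩

/-- an element fixing the set of points keeps its lift -/
theorem twist_L_fixed {σ : M24} (h : (σ : Equiv.Perm GolayPt) • X = X) :
    (twist D X).L σ = D.L σ := by
  rw [twist_L, twL_apply, disp, h, symmDiff_self]
  show D.ι 0 * _ = _
  rw [D.ι_zero, one_mul]

/-- an element given by a code gets the vector of a mask in front -/
theorem twist_L_code {σ : M24} {a x m : ℕ} (hr : Rep (σ : Equiv.Perm GolayPt) a) (hm : Ev m)
    (hlt : x < 2 ^ 24) (h : inCode ((x ^^^ actP a x) ^^^ m) = true) :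
    (twist D (toSet x)).L σ = D.vm m * D.L σ := by
  have hev : Ev (x ^^^ actP a x) := ⟨Nat.xor_lt_two_pow hlt (hr.actP_lt x), by
    rw [toSet_xor, hr.toSet_actP]; exact even_disp _ _⟩
  have e := D.vm_eq hev hm h
  rw [twist_L, twL_apply, ← e]
  congr 1
  show _ = D.ι (D.C.S (toSet (x ^^^ actP a x)))
  rw [disp, toSet_xor, hr.toSet_actP]

end CfsgLib.Spor.JankoFourIso
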