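import Cfsg.Agent.Lib.Spor.JankoFourIso.Swap
import Cfsg.Agent.Lib.Spor.JankoFourIso.SwapChecks
import Cfsg.Agent.Lib.Spor.JankoFourIso.SwapTwist

/-!
Existence of the involution of a trio: it is an involution of the symmetric group of degree five
centralising the element of order seven, and after changing the complement if necessary it
multiplies the six vectors outside the subspace by the six translations.
-/

set_option autoImplicit false
set_option maxRecDepth 100000
set_option linter.unusedSectionVars false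

namespace CfsgLib.Spor.JankoFourIso

open Cfsg CfsgLib.Spor CfsgLib.Spor.DuadM24 CfsgLib.Spor.JankoFourCentral
  CfsgLib.Spor.JankoFourPentad
open CfsgLib.Spor.JankoFourSeven hiding yP sP Y
open scoped Pointwise symmDiff

universe u v

section PermFive

abbrev P5 := Equiv.Perm (Fin 5)

/-- a double transposition -/
def cc5 : P5 := Equiv.swap 0 1 * Equiv.swap 2 3
/-- a transposition -/
def dd5 : P5 := Equiv.swap 3 4
/-- a three-cycle commuting with the transposition -/
def aa5 : P5 := Equiv.swap 0 1 * Equiv.swap 1 2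

theorem perm5_square : ∀ x : P5, x ^ 4 = 1 → x * x ≠ 1 → ∃ g : P5, g * cc5 * g⁻¹ = x * x := by
  decide +kernel

theorem perm5_three : ∀ a : P5, a ^ 3 = 1 → a ≠ 1 → ∃ g : P5, g * a * g⁻¹ = aa5 := by
  decide +kernel

theorem perm5_invert : ∀ b : P5, b * b = 1 → b ≠ 1 → b * aa5 * b = aa5 * aa5 →
    ∃ g : P5, g * cc5 * g⁻¹ = b ∨ (b * dd5 = dd5 * b ∧ g * dd5 * g⁻¹ = b) := by
  decide +kernel

theorem perm5_pair : dd5 * dd5 = 1 ∧ dd5 * aa5 = aa5 * dd5 := by
  decide +kernel

/-- a transposition inverting an element of order three commutes with a conjugate transposition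
centralising that element -/
theorem exists_transposition {x r k : P5} (hx4 : x ^ 4 = 1) (hx2 : x * x ≠ 1) (hr : r ^ 3 = 1)
    (hr1 : r ≠ 1) (hk : k * k = 1) (hk1 : k ≠ 1) (hkr : k * r * k = r * r)
    (hne : ∀ g : P5, g * (x * x) * g⁻¹ ≠ k) :
    ∃ d h : P5, d * d = 1 ∧ d * r = r * d ∧ d * k = k * d ∧ h * k * h⁻¹ = d := by
  obtain ⟨g1, hg1⟩ := perm5_three r hr hr1
  set f := MulAut.conj g1 with hf
  have hfr : f r = aa5 := hg1
  have hb2 : f k * f k = 1 := by rw [← map_mul, hk, map_one]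
  have hb1 : f k ≠ 1 := fun e => hk1 (f.injective (by rw [e, map_one]))
  have hbr : f k * aa5 * f k = aa5 * aa5 := by
    rw [← hfr, ← map_mul, ← map_mul, ← map_mul, hkr]
  obtain ⟨g, hg | ⟨hbd, hg⟩⟩ := perm5_invert (f k) hb2 hb1 hbr
  · exfalso
    obtain ⟨g2, hg2⟩ := perm5_square x hx4 hx2
    refine hne (g1⁻¹ * g * g2⁻¹) ?_
    have e : cc5 = g2⁻¹ * (x * x) * g2 := by rw [← hg2]; group
    have hfk : f k = g1 * k * g1⁻¹ := rfl
    rw [hfk, e] at hg
    calc g1⁻¹ * g * g2⁻¹ * (x * x) * (g1⁻¹ * g * g2⁻¹)⁻¹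
        = g1⁻¹ * (g * (g2⁻¹ * (x * x) * g2) * g⁻¹) * g1 := by group
      _ = k := by rw [hg]; group
  · refine ⟨f.symm dd5, f.symm g⁻¹, by rw [← map_mul, perm5_pair.1, map_one],
      f.injective (by simp only [map_mul, MulEquiv.apply_symm_apply, hfr, perm5_pair.2]),
      f.injective (by simp only [map_mul, MulEquiv.apply_symm_apply, hbd]),
      f.injective ?_⟩
    simp only [map_mul, map_inv, MulEquiv.apply_symm_apply]
    rw [← hg]; group

end PermFive

variable {G : Type u} [Group G] [Finite G] {z : G} {A : Type v} [AddCommGroup A] {D : Eleven z A}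

/-- the involution before normalising the complement -/
structure Core (D : Eleven z A) (t : G) : Prop where
  sq : t * t = 1
  comm_y : D.L (el yP) * t = t * D.L (el yP)
  comm_rho : D.L (el rhoP) * t = t * D.L (el rhoP)
  comm_s : D.L (el sP) * t = t * D.L (el sP)
  cent : t ∈ Subgroup.centralizer (Zs D : Set G)
  conj_k2 : ∃ h ∈ Subgroup.centralizer (Zs D : Set G), h * D.L (el sP) * h⁻¹ = t

theorem el_rho_ne_one : el rhoP ≠ 1 := by
  intro h
  have h1 := pt_eval packs.2.2.1 point_check.1 point_check.2.2.2.2.2.2.2.2.2.2.1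
  rw [h] at h1
  exact cfg.hpq h1

theorem exists_core (hS : Std D) (h5 : Five z) : ∃ t, Core D t := by
  obtain ⟨I, Q, J, q, hset⟩ := exists_setup hS h5
  obtain ⟨-, -, -, I', hI', -, -, -, hmem⟩ := seven_facts hS
  have hII : I = I' := by
    refine Subgroup.eq_of_le_of_card_ge (fun c hc => hmem c (hset.commI c hc) ?_)
      (by rw [hI', hset.cardI])
    have h' : (⟨c, hc⟩ : I) ^ Nat.card I = 1 := pow_card_eq_one'
    rw [hset.cardI] at h'
    exact congrArg Subtype.val h'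
  subst hII
  have hk : k2 D ∈ I := hmem _ (k2_Y D)
    (pow_dvd_pow (m := 2) (by rw [pow_two]; exact k2_sq D) (by norm_num))
  have hr : r3 D ∈ I := hmem _ (r3_Y D) (pow_dvd_pow (r3_cube D) (by norm_num))
  have hkr : k2 D * r3 D * k2 D = r3 D * r3 D := by
    have h := congrArg el (Nat.eq_of_beq_eq_true h_check.2.2.2)
    rw [el_mul packs.2.2.1 packs.2.1, el_mul (packs.2.1.comp packs.2.2.1) packs.2.2.1,
      el_mul packs.2.1 packs.2.2.1] at h
    have h' : r3 D * k2 D = k2 D * r3 D * r3 D := by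
      rw [r3, k2, ← D.L_mul, h, D.L_mul, D.L_mul]
    calc k2 D * r3 D * k2 D = k2 D * (r3 D * k2 D) := mul_assoc _ _ _
      _ = (k2 D * k2 D) * (r3 D * r3 D) := by rw [h']; group
      _ = r3 D * r3 D := by rw [k2_sq, one_mul]
  obtain ⟨e⟩ := hset.isoI
  let x' : I := ⟨x4 D, hset.x_mem⟩
  let k' : I := ⟨k2 D, hk⟩
  let r' : I := ⟨r3 D, hr⟩
  have hk1 : k2 D ≠ 1 := JankoFourSeven.kk_ne_one D cfg
  have hr1 : r3 D ≠ 1 := fun h => el_rho_ne_one (D.L_inj (by rw [D.L_one]; exact h))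
  obtain ⟨d, h, hd2, hdr, hdk, hdh⟩ := exists_transposition (x := e x') (r := e r') (k := e k')
    (by rw [← map_pow, show x' ^ 4 = 1 from Subtype.ext (x4_four D), map_one])
    (fun h => x4_sq_ne D (congrArg Subtype.val (e.injective (by rw [map_mul, h, map_one]) :
      x' * x' = 1)))
    (by rw [← map_pow, show r' ^ 3 = 1 from Subtype.ext (r3_cube D), map_one])
    (fun h => hr1 (congrArg Subtype.val (e.injective (by rw [h, map_one]) : r' = 1)))
    (by rw [← map_mul, show k' * k' = 1 from Subtype.ext (k2_sq D), map_one])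
    (fun h => hk1 (congrArg Subtype.val (e.injective (by rw [h, map_one]) : k' = 1)))
    (by rw [← map_mul, ← map_mul, ← map_mul]; exact congrArg e (Subtype.ext hkr))
    (by
      intro g hg
      have hg' : e.symm g * (x' * x') * (e.symm g)⁻¹ = k' := e.injective (by
        simp only [map_mul, map_inv, MulEquiv.apply_symm_apply]; exact hg)
      have h1 : IsConj (x4 D * x4 D) (k2 D) :=
        isConj_iff.2 ⟨(e.symm g : I), congrArg Subtype.val hg'⟩
      rw [x4_sq] at h1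
      exact du_not_conj D cfg.hpq ((isConj_kk cfg hS).trans h1.symm))
  have hdr' : e.symm d * r' = r' * e.symm d := e.injective (by simp [hdr])
  have hdk' : e.symm d * k' = k' * e.symm d := e.injective (by simp [hdk])
  have hdh' : e.symm h * k' * (e.symm h)⁻¹ = e.symm d := e.injective (by simp [hdh])
  refine ⟨(e.symm d : I), ⟨?_, (hset.commI _ (e.symm d).2).symm, (congrArg Subtype.val hdr').symm,
    (congrArg Subtype.val hdk').symm, hset.centI (e.symm d).2,
    (e.symm h : I), hset.centI (e.symm h).2, congrArg Subtype.val hdh'⟩⟩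
  exact congrArg Subtype.val (show e.symm d * e.symm d = 1 by rw [← map_mul, hd2, map_one])

theorem compP_eq {a b c d : ℕ} (ha : RepIn M24 a) (hb : RepIn M24 b) (hc : RepIn M24 c)
    (hd : RepIn M24 d) (h : el a * el b = el c * el d) : compP a b = compP c d := by
  rw [compP, compP]
  congr 1
  refine List.map_congr_left fun i hi => ?_
  have hi' : i < 24 := List.mem_range.1 hi
  rw [rep_el hb i hi', (rep_el ha).get, rep_el hd i hi', (rep_el hc).get, ← Equiv.Perm.mul_apply,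
    ← Equiv.Perm.mul_apply, ← Subgroup.coe_mul, ← Subgroup.coe_mul, h]

/-- commuting with a lifted permutation in the subgroup of order `2^15` -/
theorem fixed_parts (D : Eleven z A) {g w u : ℕ} (hg : RepIn M24 g) (hw : w ∈ v9List)
    (hu : u ∈ uList)
    (h : D.L (el g) * (D.vm w * D.L (el u)) * (D.L (el g))⁻¹ = D.vm w * D.L (el u)) :
    fixC g w = true ∧ compP g u = compP u g := by
  have e : D.L (el g) * (D.vm w * D.L (el u)) * (D.L (el g))⁻¹ =
      D.L (el g) * D.vm w * (D.L (el g))⁻¹ * D.L (el g * el u * (el g)⁻¹) := by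
    rw [D.L_mul, D.L_mul, D.L_inv]; group
  rw [e] at h
  have hc := eq_of_vL D (L_conj_mem D _ (D.vm_mem w)) (D.vm_mem w) h
  have hu' := repIn_uList hu
  refine ⟨?_, compP_eq hg hu' hu' hg (mul_inv_eq_iff_eq_mul.1 hc)⟩
  rw [hc] at h
  exact (fixC_iff D (rep_el hg) (ev_v9 hw)).2 (mul_right_cancel h)

theorem vm3_facts (D : Eleven z A) : D.vm 3 ∈ V9 D ∧ D.vm 3 ≠ 1 ∧ ¬ IsConj z (D.vm 3) := by
  obtain ⟨-, h3, -, hlen, -⟩ := index_check
  refine ⟨?_, ?_⟩
  · refine vm_mem_vSub D ?_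
    rw [← Nat.eq_of_beq_eq_true h3, List.getD_eq_getElem _ _ (by rw [hlen]; norm_num)]
    exact List.getElem_mem _
  · have hc : (toSet 3).card = 2 := by rw [card_toSet]; decide +kernel
    have hd : D.C.S (toSet 3) ∈ D.C.duads := D.C.mem_duads_iff.2 ⟨_, hc, rfl⟩
    obtain ⟨a, b, hab, he⟩ := hd
    have e : D.vm 3 = du D a b := by rw [Eleven.vm, he]; rfl
    rw [e]
    exact ⟨du_ne_one D hab, du_not_conj D hab⟩

theorem vm586_conj (D : Eleven z A) : IsConj z (D.vm 586) := by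
  obtain ⟨h0, hd⟩ := D.C.tetrad_not_duad (s := toSet 586)
    (by rw [card_toSet]; exact index_check.2.2.2.2.2.2.2.2.2.2.1)
  by_contra h
  exact hd ((D.duad _ h0).2 h)

theorem repIn_gP : RepIn M24 gP ∧ RepIn M24 u0P ∧ RepIn M24 e5P ∧ RepIn M24 sgP ∧ u0P ∈ uMasks ∧
    el e5P = el sP * (el rhoP * el rhoP) := by
  obtain ⟨h0, -, hlen, -, he, hs, -⟩ := index_check
  have hu : u0P ∈ uMasks := by
    rw [← Nat.eq_of_beq_eq_true h0, List.getD_eq_getElem _ _ (by rw [hlen]; norm_num)]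
    exact List.getElem_mem _
  have he' := Nat.eq_of_beq_eq_true he
  have her : RepIn M24 e5P := he'.symm ▸ packs.2.1.comp (packs.2.2.1.comp packs.2.2.1)
  refine ⟨packs.2.2.2.1.comp her, repIn_uMask hu, her, repIn_of_check hs, hu, ?_⟩
  rw [he', el_mul packs.2.1 (packs.2.2.1.comp packs.2.2.1), el_mul packs.2.2.1 packs.2.2.1]

theorem ev_consts : Ev 3 ∧ Ev 585 ∧ Ev 586 ∧ Ev mP := by
  obtain ⟨-, -, -, -, -, -, h1, h2, h3, h4, -⟩ := index_check
  simp only [evB, Bool.and_eq_true, Nat.blt_eq, Nat.beq_eq] at h1 h2 h3 h4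
  exact ⟨ev_of_check h1.1 h1.2, ev_of_check h2.1 h2.2, ev_of_check h3.1 h3.2,
    ev_of_check h4.1 h4.2⟩

section CoreFacts

variable (hS : Std D) {t : G} (hC : Core D t)
include hS hC

theorem core_isConj : IsConj z t := by
  obtain ⟨h, -, e⟩ := hC.conj_k2
  exact (isConj_kk cfg hS).trans (isConj_iff.2 ⟨h, e⟩)

theorem core_notMem : t ∉ Subgroup.normalizer (D.V : Set G) := by
  intro hN
  set σ := pr D t with hσ
  have key : ∀ τ : M24, D.L τ * t = t * D.L τ → ∀ x,
      (σ : Equiv.Perm GolayPt) ((τ : Equiv.Perm GolayPt) x) =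
        (τ : Equiv.Perm GolayPt) ((σ : Equiv.Perm GolayPt) x) := by
    intro τ h x
    have h' := congrArg (pr D) h
    rw [pr_mul D (D.L_mem _) hN, pr_mul D hN (D.L_mem _), pr_L] at h'
    exact (congrArg (fun w : M24 => (w : Equiv.Perm GolayPt) x) h').symm
  have hy := key _ hC.comm_y
  have hs := key _ hC.comm_s
  have hρ := key _ hC.comm_rho
  obtain ⟨hp, hq, hr, -, -, -, -, sp, sq, sr, rp, rq, rr⟩ := point_check
  have esp := pt_eval packs.2.1 hp sp
  have esq := pt_eval packs.2.1 hq sq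
  have esr := pt_eval packs.2.1 hr sr
  have erp := pt_eval packs.2.2.1 hp rp
  have err := pt_eval packs.2.2.1 hr rr
  have hσr : (σ : Equiv.Perm GolayPt) (pt rI) = pt rI := by
    have h1 := hy (pt rI)
    rw [(yfix_iff _).2 (Or.inr (Or.inr rfl))] at h1
    have h2 := hs (pt rI)
    rw [esr] at h2
    rcases (yfix_iff _).1 h1.symm with e | e | e
    · rw [e, esp] at h2; exact absurd h2 cfg.hpq
    · rw [e, esq] at h2; exact absurd h2.symm cfg.hpq
    · exact e
  have hσp : (σ : Equiv.Perm GolayPt) (pt pI) = pt pI := by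
    rw [← err, hρ, hσr, err]
  have hσq : (σ : Equiv.Perm GolayPt) (pt qI) = pt qI := by
    rw [← erp, hρ, hσp, erp]
  obtain ⟨i, hi⟩ := cfg.cent_pair σ.2 (Equiv.ext hy) hσp hσq
  have h2 : σ * σ = 1 := by rw [hσ, ← pr_mul D hN hN, hC.sq, pr_one]
  have h3 : cfg.y ^ (i + i) = 1 := by
    rw [pow_add, ← hi]; exact congrArg Subtype.val h2
  have h7 := orderOf_dvd_of_pow_eq_one h3
  rw [cfg.orderOf_y] at h7
  have hσ1 : σ = 1 := Subtype.ext (by
    rw [hi]
    exact orderOf_dvd_iff_pow_eq_one.1 (by rw [cfg.orderOf_y]; omega))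
  have hz := core_isConj hS hC
  rcases fix_Y cfg (mem_V_of_pr D hN hσ1) hC.comm_y with e | e | e | e
  · rw [e, isConj_one_left] at hz
    exact absurd (z_order hS) (by rw [hz, orderOf_one]; norm_num)
  · rw [e] at hz; exact du_not_conj D cfg.hpq hz
  · rw [e] at hz; exact du_not_conj D cfg.hrp.symm hz
  · rw [e] at hz; exact du_not_conj D cfg.hrq.symm hz

theorem core_norm : t ∈ Subgroup.normalizer (Lsub D : Set G) := by
  rw [normalizer_eq D hS.hJ]; exact Subgroup.centralizer_le_normalizer _ hC.cent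

theorem core_t_inv : t⁻¹ = t := inv_eq_of_mul_eq_one_right hC.sq

theorem core_Zs {c : G} (hc : c ∈ Zs D) : c * t = t * c :=
  Subgroup.mem_centralizer_iff.1 hC.cent c hc

/-- the outer elements commute with the involution modulo the subspace -/
theorem core_disp (h5 : Five z) {a : ℕ} (ha : a ∈ [w0P, y2P]) :
    ∃ c ∈ Zs D, D.L (el a) * t * (D.L (el a))⁻¹ = c * t := by
  obtain ⟨I, Q, J, q, hset⟩ := exists_setup hS h5
  obtain ⟨hc1, hc2, hc3, hc4⟩ := outer_comm_check
  have hfacts : RepIn M24 a ∧ el a ∈ Wsub ∧ el a * el sP = el sP * el a ∧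
      el a * el rhoP = el rhoP * el a := by
    obtain ⟨-, -, -, -, -, -, -, -, -, -, -, hw0, hy2⟩ := index_check
    simp only [List.mem_cons, List.not_mem_nil, or_false] at ha
    rcases ha with rfl | rfl
    · obtain ⟨b, hb, e⟩ := List.any_eq_true.1 hw0
      exact ⟨packs.2.2.2.1, mem_Wsub_iff.2 ⟨b, hb, by rw [Nat.eq_of_beq_eq_true e]⟩,
        el_comm packs.2.2.2.1 packs.2.1 hc1, el_comm packs.2.2.2.1 packs.2.2.1 hc2⟩
    · obtain ⟨b, hb, e⟩ := List.any_eq_true.1 hy2
      exact ⟨packs.2.2.2.2.1, mem_Wsub_iff.2 ⟨b, hb, by rw [Nat.eq_of_beq_eq_true e]⟩,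
        el_comm packs.2.2.2.2.1 packs.2.1 hc3, el_comm packs.2.2.2.2.1 packs.2.2.1 hc4⟩
  obtain ⟨har, haW, has, hat⟩ := hfacts
  set W := D.L (el a) with hW
  have hmem := WG_comm hS hset (w := W) ⟨el a, haW, rfl⟩ t hC.cent
  rw [core_t_inv hS hC] at hmem
  have hcomm : ∀ τ : M24, el a * τ = τ * el a → D.L τ * t = t * D.L τ →
      D.L τ * (W * t * W⁻¹ * t) * (D.L τ)⁻¹ = W * t * W⁻¹ * t := by
    intro τ h1 h2
    have h1' : Commute (D.L τ) W := by
      show D.L τ * D.L (el a) = D.L (el a) * D.L τ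
      rw [← D.L_mul, ← D.L_mul, h1]
    exact mul_inv_eq_iff_eq_mul.2
      (((h1'.mul_right h2).mul_right h1'.inv_right).mul_right h2).eq
  obtain ⟨_, ⟨w, hw, rfl⟩, u, hu, e⟩ := (mem_Lsub D).1 hmem
  obtain ⟨hs1, hs2⟩ := fixed_parts D packs.2.1 hw hu (e ▸ hcomm _ has hC.comm_s)
  obtain ⟨hr1, hr2⟩ := fixed_parts D packs.2.2.1 hw hu (e ▸ hcomm _ hat hC.comm_rho)
  have hu1 : u = eP := by
    have h := List.all_eq_true.1 fixed_check.2 u hu
    simpa [hs2, hr2] using h
  have hwZ : memC zList w = true := by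
    have h := List.all_eq_true.1 fixed_check.1 w hw
    simpa [hs1, hr1] using h
  obtain ⟨b, hb, hbe⟩ := exists_memC D ev_check.1 (ev_v9 hw) hwZ
  refine ⟨D.vm w, ⟨b, hb, hbe.symm⟩, ?_⟩
  rw [hu1, el_eP, D.L_one, mul_one] at e
  rw [← e, mul_assoc (W * t * W⁻¹) t t, hC.sq, mul_one]

theorem isConj_u0 : IsConj z (D.L (el u0P)) := by
  obtain ⟨-, hu, -, hsg, -, -⟩ := repIn_gP
  have e := congrArg el (Nat.eq_of_beq_eq_true class_check.2.1)
  rw [el_mul hsg packs.2.1, el_mul hu hsg] at e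
  refine (isConj_kk cfg hS).trans (isConj_iff.2 ⟨D.L (el sgP), ?_⟩)
  show D.L (el sgP) * D.L (el sP) * _ = _
  rw [← D.L_mul, e, D.L_mul, mul_inv_cancel_right]

/-- the two possible images of the first pair -/
theorem core_cases (h5 : Five z) : t * D.vm 3 * t = D.vm 3 * D.L (el u0P) ∨
    t * D.vm 3 * t = D.vm 585 * D.L (el u0P) := by
  obtain ⟨hg, hu0, he5, -, hu0m, hee⟩ := repIn_gP
  obtain ⟨h39, h31, h3z⟩ := vm3_facts D
  obtain ⟨hev3, hev585, hev586, hevm⟩ := ev_consts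
  obtain ⟨hfix, hgu, hv, hU⟩ := dichotomy_check
  set x := t * D.vm 3 * t with hx
  have hxL : x ∈ Lsub D := by
    have := (Subgroup.mem_normalizer_iff.1 (core_norm hS hC) _).1 (V9_le_Lsub D h39)
    rwa [core_t_inv hS hC] at this
  have hxc : IsConj (D.vm 3) x := isConj_iff.2 ⟨t, by rw [core_t_inv hS hC]⟩
  have hxz : ¬ IsConj z x := fun h => h3z (h.trans hxc.symm)
  have hx1 : x ≠ 1 := by
    intro h
    rw [h, isConj_one_left] at hxc
    exact h31 hxc
  -- the element fixing the first pair fixes its image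
  have hgx : D.L (el gP) * x * (D.L (el gP))⁻¹ = x := by
    obtain ⟨c, hc, hct⟩ := core_disp hS hC h5 (a := w0P) (List.mem_cons_self)
    have het : Commute (D.L (el e5P)) t := by
      rw [hee, D.L_mul, D.L_mul]
      exact Commute.mul_left hC.comm_s (Commute.mul_left hC.comm_rho hC.comm_rho)
    have hgt : D.L (el gP) * t * (D.L (el gP))⁻¹ = c * t := by
      rw [gP, el_mul packs.2.2.2.1 he5, D.L_mul, ← hct]
      calc D.L (el w0P) * D.L (el e5P) * t * (D.L (el w0P) * D.L (el e5P))⁻¹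
          = D.L (el w0P) * (D.L (el e5P) * t * (D.L (el e5P))⁻¹) * (D.L (el w0P))⁻¹ := by group
        _ = _ := by rw [het.eq, mul_inv_cancel_right]
    have hg3 := (fixC_iff D (rep_el hg) hev3).1 hfix
    calc D.L (el gP) * x * (D.L (el gP))⁻¹
        = (D.L (el gP) * t * (D.L (el gP))⁻¹) * (D.L (el gP) * D.vm 3 * (D.L (el gP))⁻¹) *
          (D.L (el gP) * t * (D.L (el gP))⁻¹) := by rw [hx]; group
      _ = (t * c) * D.vm 3 * (c * t) := by rw [hgt, hg3, core_Zs hS hC hc]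
      _ = t * (D.vm 3 * (c * c)) * t := by
        rw [mul_assoc t c, V_comm D (Zs_le_V D hc) (D.vm_mem 3)]; group
      _ = x := by rw [V_sq D (Zs_le_V D hc), mul_one]
  obtain ⟨_, ⟨w, hw, rfl⟩, u, hu, e⟩ := (mem_Lsub D).1 hxL
  obtain ⟨hw', hu'⟩ := fixed_parts D hg hw hu (e ▸ hgx)
  have hmem : memC [0, 3, 585, 586] w = true := by
    have h := List.all_eq_true.1 hv w hw
    simpa [hw'] using h
  have hu2 : u = eP ∨ u = u0P := by
    have h := List.all_eq_true.1 hU u hu
    simpa [hu'] using h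
  obtain ⟨b, hb, hbe⟩ := List.any_eq_true.1 hmem
  simp only [List.mem_cons, List.not_mem_nil, or_false] at hb
  have hwb : D.vm w = D.vm b := D.vm_eq (ev_v9 hw) (by
    rcases hb with rfl | rfl | rfl | rfl
    exacts [JankoFourCentral.ev_zero, hev3, hev585, hev586]) hbe
  rw [hwb] at e
  rcases hu2 with rfl | rfl
  · exfalso
    rw [el_eP, D.L_one, mul_one] at e
    rcases hb with rfl | rfl | rfl | rfl
    · exact hx1 (e.trans D.vm_zero)
    · refine core_notMem hS hC (hS.cent _ (D.vm_mem 3) h31 h3z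
        (Subgroup.mem_centralizer_singleton_iff.2 ?_))
      calc t * D.vm 3 = t * D.vm 3 * (t * t) := by rw [hC.sq, mul_one]
        _ = x * t := by rw [hx]; group
        _ = D.vm 3 * t := by rw [e]
    · refine hxz (e ▸ isConj_of_mem_Zs D ?_ (e ▸ hx1))
      exact vm_mem_vSub D (List.mem_cons_of_mem _ List.mem_cons_self)
    · exact hxz (e ▸ vm586_conj D)
  · rcases hb with rfl | rfl | rfl | rfl
    · exact absurd (by rw [e, D.vm_zero, one_mul]; exact isConj_u0 hS hC) hxz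
    · exact Or.inl e
    · exact Or.inr e
    · refine absurd ((isConj_u0 hS hC).trans (isConj_iff.2 ⟨D.vm mP, ?_⟩)) hxz
      have hr := rep_el hu0
      rw [e, D.vm_eq hev586 (hevm.xor (ev_of_rep hr hevm)) class_check.1, D.vm_xor,
        ← D.L_vm hr hevm, D.vm_inv]
      have hinv : (D.L (el u0P))⁻¹ = D.L (el u0P) := by
        rw [← D.L_inv, inv_eq_of_mul_eq_one_right (el_uMask_sq hu0m)]
      calc D.vm mP * D.L (el u0P) * D.vm mP
          = D.vm mP * (D.L (el u0P) * D.vm mP * (D.L (el u0P))⁻¹) * D.L (el u0P) := by group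
        _ = _ := rfl

variable (hA : t * D.vm 3 * t = D.vm 3 * D.L (el u0P))
include hA

theorem core_move {i : ℕ} (hi : i < 6) :
    t * D.vm (vMasks.getD (3 + i) 0) * t =
      D.vm (vMasks.getD (3 + i) 0) * D.L (el (uMasks.getD i 0)) := by
  obtain ⟨hyr, hye⟩ := repIn_yEl (show i % 3 < 7 by omega)
  obtain ⟨-, hu0, -, -, -, -⟩ := repIn_gP
  have hu : uMasks.getD i 0 ∈ uMasks := by
    rw [List.getD_eq_getElem _ _ (by rw [index_check.2.2.1]; exact hi)]
    exact List.getElem_mem _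
  obtain ⟨hgr, hgt⟩ : RepIn M24 (mvP i) ∧ Commute (D.L (el (mvP i))) t := by
    have hY : Commute (D.L (el (yEl (i % 3)))) t := by
      rw [hye, L_pow]
      exact Commute.pow_left hC.comm_y _
    rw [mvP]
    cases Nat.blt i 3
    · refine ⟨hyr.comp packs.2.2.1, ?_⟩
      rw [cond_false, el_mul hyr packs.2.2.1, D.L_mul]
      exact hY.mul_left hC.comm_rho
    · refine ⟨hyr.comp repIn_eP, ?_⟩
      rw [cond_true, el_mul hyr repIn_eP, el_eP, mul_one]
      exact hY
  have h := List.all_eq_true.1 move_check i (List.mem_range.2 hi)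
  rw [Bool.and_eq_true] at h
  have hr := rep_el hgr
  have hvi : Ev (vMasks.getD (3 + i) 0) := ev_vMask (by
    rw [List.getD_eq_getElem _ _ (by rw [index_check.2.2.2.1]; omega)]
    exact List.getElem_mem _)
  have hvm : D.L (el (mvP i)) * D.vm 3 * (D.L (el (mvP i)))⁻¹ = D.vm (vMasks.getD (3 + i) 0) := by
    rw [D.L_vm hr ev_consts.1]
    exact D.vm_eq (ev_of_rep hr ev_consts.1) hvi h.1
  have hue : D.L (el (mvP i)) * D.L (el u0P) * (D.L (el (mvP i)))⁻¹ =
      D.L (el (uMasks.getD i 0)) := by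
    have e := congrArg el (Nat.eq_of_beq_eq_true h.2)
    rw [el_mul hgr hu0, el_mul (repIn_uMask hu) hgr] at e
    rw [← D.L_mul, e, D.L_mul, mul_inv_cancel_right]
  have hti : D.L (el (mvP i)) * t * (D.L (el (mvP i)))⁻¹ = t := by
    rw [hgt.eq, mul_inv_cancel_right]
  calc t * D.vm (vMasks.getD (3 + i) 0) * t
      = (D.L (el (mvP i)) * t * (D.L (el (mvP i)))⁻¹) *
        (D.L (el (mvP i)) * D.vm 3 * (D.L (el (mvP i)))⁻¹) *
        (D.L (el (mvP i)) * t * (D.L (el (mvP i)))⁻¹) := by rw [hti, hvm]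
    _ = D.L (el (mvP i)) * (t * D.vm 3 * t) * (D.L (el (mvP i)))⁻¹ := by group
    _ = D.L (el (mvP i)) * (D.vm 3 * D.L (el u0P)) * (D.L (el (mvP i)))⁻¹ := by rw [hA]
    _ = D.L (el (mvP i)) * D.vm 3 * (D.L (el (mvP i)))⁻¹ *
        (D.L (el (mvP i)) * D.L (el u0P) * (D.L (el (mvP i)))⁻¹) := by group
    _ = _ := by rw [hvm, hue]

theorem core_comm_u {u : ℕ} (hu : u ∈ uMasks) :
    D.L (el u) * t = t * D.L (el u) := by
  obtain ⟨i, hi, rfl⟩ := List.getElem_of_mem hu
  have hm := core_move hS hC hA (i := i) (by rw [← index_check.2.2.1]; exact hi)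
  rw [List.getD_eq_getElem uMasks 0 hi] at hm
  set v := D.vm (vMasks.getD (3 + i) 0) with hv
  set w := D.L (el uMasks[i]) with hw
  have hv2 : v * v = 1 := D.vm_sq _
  have hw2 : w * w = 1 := by rw [hw, ← D.L_mul, el_uMask_sq hu, D.L_one]
  have h1 : (v * w) * (v * w) = 1 := by
    rw [← hm, show t * v * t * (t * v * t) = t * v * (t * t) * v * t by group, hC.sq, mul_one,
      mul_assoc t v v, hv2, mul_one, hC.sq]
  have h2 : v * w * v = w := by
    rw [← mul_assoc] at h1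
    calc v * w * v = v * w * v * (w * w) := by rw [hw2, mul_one]
      _ = v * w * v * w * w := by group
      _ = w := by rw [h1, one_mul]
  have h3 : w = v * (t * v * t) := by rw [hm, ← mul_assoc, hv2, one_mul]
  have h4 : t * w * t = w := by
    conv_lhs => rw [h3]
    calc t * (v * (t * v * t)) * t = (t * v * t) * v * (t * t) := by group
      _ = w := by rw [hm, hC.sq, mul_one, h2]
  calc w * t = t * w * t * t := by rw [h4]
    _ = t * w := by rw [mul_assoc, hC.sq, mul_one]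

theorem core_not_isConj {v : G} (hv : v ∈ Zs D) (h1 : v ≠ 1) : ¬ IsConj z (t * v) := by
  obtain ⟨-, hu0, -, hsg, hu0m, -⟩ := repIn_gP
  obtain ⟨hev3, -, -, hevm⟩ := ev_consts
  obtain ⟨k, -, rfl⟩ := Zs_orbit D hv h1
  have hY : Commute (Y D ^ k) t := Commute.pow_left hC.comm_y k
  intro hz
  have hz0 : IsConj z (t * D.z₀) := hz.trans (isConj_iff.2 ⟨(Y D ^ k)⁻¹, by
    rw [inv_inv]
    calc (Y D ^ k)⁻¹ * (t * (Y D ^ k * D.z₀ * (Y D ^ k)⁻¹)) * Y D ^ k
        = (Y D ^ k)⁻¹ * (t * Y D ^ k) * D.z₀ := by group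
      _ = _ := by rw [← hY.eq, inv_mul_cancel_left]⟩)
  obtain ⟨h, hh, ht⟩ := hC.conj_k2
  have hhz := Subgroup.mem_centralizer_iff.1 hh _ (z₀_mem_Zs D)
  have hk : D.z₀ * D.L (el sP) = D.L (el sP) * D.z₀ := by
    have h' := core_Zs hS hC (z₀_mem_Zs D)
    rw [← ht] at h'
    calc D.z₀ * D.L (el sP) = h⁻¹ * (h * D.z₀) * D.L (el sP) * h⁻¹ * h := by group
      _ = h⁻¹ * (D.z₀ * h) * D.L (el sP) * h⁻¹ * h := by rw [hhz]
      _ = h⁻¹ * (D.z₀ * (h * D.L (el sP) * h⁻¹)) * h := by group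
      _ = h⁻¹ * (h * D.L (el sP) * h⁻¹ * D.z₀) * h := by rw [h']
      _ = D.L (el sP) * (h⁻¹ * (D.z₀ * h)) := by group
      _ = D.L (el sP) * D.z₀ := by rw [hhz, inv_mul_cancel_left]
  have hz1 : IsConj z (D.z₀ * D.L (el sP)) := hz0.trans (isConj_iff.2 ⟨h⁻¹, by
    rw [inv_inv, hk, ← ht]
    calc h⁻¹ * (h * D.L (el sP) * h⁻¹ * D.z₀) * h
        = D.L (el sP) * (h⁻¹ * (D.z₀ * h)) := by group
      _ = D.L (el sP) * D.z₀ := by rw [hhz, inv_mul_cancel_left]⟩)
  set S := D.L (el sgP) with hSg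
  have hconj : S * (D.z₀ * D.L (el sP)) * S⁻¹ = D.vm (actP sgP 15) * D.L (el u0P) := by
    have e := congrArg el (Nat.eq_of_beq_eq_true class_check.2.1)
    rw [el_mul hsg packs.2.1, el_mul hu0 hsg] at e
    have e' : S * D.L (el sP) * S⁻¹ = D.L (el u0P) := by
      rw [hSg, ← D.L_mul, e, D.L_mul, mul_inv_cancel_right]
    rw [show S * (D.z₀ * D.L (el sP)) * S⁻¹ = S * D.z₀ * S⁻¹ * (S * D.L (el sP) * S⁻¹) by group,
      e', hSg, Eleven.z₀, D.L_vm (rep_el hsg) Eleven.ev_fifteen]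
  have hr := rep_el hu0
  have hea : Ev (actP sgP 15) := ev_of_rep (rep_el hsg) Eleven.ev_fifteen
  have heq : D.vm (actP sgP 15) = D.vm 3 * D.vm mP * D.vm (actP u0P mP) := by
    rw [← D.vm_xor, ← D.vm_xor]
    refine D.vm_eq hea ((hev3.xor hevm).xor (ev_of_rep hr hevm)) ?_
    rw [← Nat.xor_assoc, ← Nat.xor_assoc]
    exact class_check.2.2
  refine (vm3_facts D).2.2 (hz1.trans (IsConj.trans (isConj_iff.2 ⟨D.vm mP * S, ?_⟩)
    (isConj_iff.2 ⟨t, by rw [core_t_inv hS hC]; exact hA⟩ :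
      IsConj (D.vm 3) (D.vm 3 * D.L (el u0P))).symm))
  rw [show D.vm mP * S * (D.z₀ * D.L (el sP)) * (D.vm mP * S)⁻¹ =
    D.vm mP * (S * (D.z₀ * D.L (el sP)) * S⁻¹) * (D.vm mP)⁻¹ by group, hconj, heq, ← D.L_vm hr hevm]
  calc D.vm mP * (D.vm 3 * D.vm mP * (D.L (el u0P) * D.vm mP * (D.L (el u0P))⁻¹) * D.L (el u0P)) *
        (D.vm mP)⁻¹ = D.vm mP * (D.vm 3 * D.vm mP) * D.L (el u0P) := by group
    _ = D.vm mP * (D.vm mP * D.vm 3) * D.L (el u0P) := by rw [D.vm_comm 3 mP]
    _ = _ := by rw [← mul_assoc (D.vm mP), D.vm_sq, one_mul]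

theorem core_swap (h5 : Five z) : Swap D t where
  sq := hC.sq
  comm_y := hC.comm_y
  comm_y2 := by
    obtain ⟨c, hc, hct⟩ := core_disp hS hC h5 (a := y2P) (List.mem_cons_of_mem _ List.mem_cons_self)
    have hz : IsConj z (t * c) := (core_isConj hS hC).trans
      (isConj_iff.2 ⟨D.L (el y2P), by rw [hct, core_Zs hS hC hc]⟩)
    have hc1 : c = 1 := by
      by_contra h
      exact core_not_isConj hS hC hA hc h hz
    rw [hc1, one_mul] at hct
    exact mul_inv_eq_iff_eq_mul.1 hct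
  comm_rho := hC.comm_rho
  comm_s := hC.comm_s
  comm_u := fun _ hu => core_comm_u hS hC hA hu
  comm_z := fun _ ha => core_Zs hS hC (vm_mem_vSub D ha)
  move := fun _ hi => core_move hS hC hA hi
  isConj := core_isConj hS hC
  not_isConj := fun _ hv h1 => core_not_isConj hS hC hA hv h1

end CoreFacts

/-- after changing the complement if necessary there is an involution of the trio -/
theorem exists_swap (hS : Std D) (h5 : Five z) :
    ∃ D' : Eleven z A, Std D' ∧ D'.V = D.V ∧ ∃ t, Swap D' t := by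
  obtain ⟨t, hC⟩ := exists_core hS h5
  rcases core_cases hS hC h5 with h | h
  · exact ⟨D, hS, rfl, t, core_swap hS hC h h5⟩
  obtain ⟨hy, hρ, hs, hu⟩ := twist_check
  have hfix : ∀ a, RepIn M24 a → Nat.beq (actP a xP) xP = true →
      (twist D (toSet xP)).L (el a) = D.L (el a) := fun a ha he => by
    refine twist_L_fixed (toSet xP) ?_
    rw [← (rep_el ha).toSet_actP, Nat.eq_of_beq_eq_true he]
  have hS' : Std (twist D (toSet xP)) := twist_std (toSet xP) hS
  have hC' : Core (twist D (toSet xP)) t :=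
    ⟨hC.sq, by rw [hfix _ packs.1 hy]; exact hC.comm_y,
      by rw [hfix _ packs.2.2.1 hρ]; exact hC.comm_rho,
      by rw [hfix _ packs.2.1 hs]; exact hC.comm_s, hC.cent,
      by
        obtain ⟨g, hg, e⟩ := hC.conj_k2
        exact ⟨g, hg, by rw [hfix _ packs.2.1 hs]; exact e⟩⟩
  refine ⟨_, hS', rfl, t, core_swap hS' hC' ?_ h5⟩
  rcases core_cases hS' hC' h5 with h' | h'
  · exact h'
  exfalso
  obtain ⟨-, hu0, -, -, -, -⟩ := repIn_gP
  rw [twist_L_code (rep_el hu0) ev_consts.2.2.1 (by decide +kernel) hu] at h'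
  simp only [twist_vm] at h'
  have h586 : D.vm 586 = 1 := mul_eq_right.1 (mul_left_cancel (h'.symm.trans h))
  have := vm586_conj D
  rw [h586, isConj_one_left] at this
  exact absurd (z_order hS) (by rw [this, orderOf_one]; norm_num)

end CfsgLib.Spor.JankoFourIso
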