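import Cfsg.Agent.Lib.Spor.JankoFourIso.Hom
import Cfsg.Agent.Lib.Spor.JankoFourIso.SwapExists
import Cfsg.Agent.Lib.Spor.JankoFourPentad.Final
import Cfsg.Agent.S3344

/-!
A simple group of Janko-four type is isomorphic to the fourth Janko group.
-/

set_option autoImplicit false

namespace CfsgLib.Spor.JankoFourIso

open Cfsg CfsgLib.Spor CfsgLib.Spor.JankoFourCentral

universe u

/-- a simple group of Janko-four type is the fourth Janko group -/
theorem isoJ4 {G : Type u} [Group G] [Finite G] [IsSimpleGroup G] (hG : ¬ IsMulCommutative G)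
    {z : G} (hJ : Cfsg.IsOfJankoFourTypeAt z) : Cfsg.Spor.IsoJ4 G := by
  obtain ⟨A, _, ⟨D⟩⟩ := LargeFi.J4.exists_eleven hG hJ
  obtain ⟨D', -, -, t, S⟩ := exists_swap (D := D) ⟨hJ, D.core_fusion hJ, D.cent_le hJ⟩
    fun Q hQ hQz => JankoFourFive.local_five D hJ
      (fun J _ _ s hs L hL R hR hex hcard e X hX hw =>
        Cfsg.Agent.S3344.result s hs L hL R hR hex hcard e X hX hw) Q hQ hQz
  obtain ⟨φ, hφ⟩ := exists_bijective D' S hJ
  exact ⟨(MulEquiv.ofBijective φ hφ).symm⟩

end CfsgLib.Spor.JankoFourIso
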