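import Cfsg.Agent.Lib.Spor.JankoFourIso.Swap
import Cfsg.Agent.Lib.Spor.J4.Index.Base

/-!
Words in the normaliser of the elementary abelian subgroup of order `2^11` and conjugates of a trio
involution, evaluated on the extraspecial two-cores of the vectors of sextet type.
-/

set_option autoImplicit false
set_option maxRecDepth 100000

namespace CfsgLib.Spor.JankoFourIso

open Cfsg CfsgLib.Spor CfsgLib.Spor.JankoFourCentral CfsgLib.Spor.JankoFourPentad
open scoped Pointwise

/-- a vector, a permutation and its inverse -/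
abbrev P3 : Type := ℕ × ℕ × ℕ

/-- product -/
def mul3 (a b : P3) : P3 := (a.1 ^^^ actP a.2.1 b.1, compP a.2.1 b.2.1, compP b.2.2 a.2.2)

/-- inverse -/
def inv3 (a : P3) : P3 := (actP a.2.2 a.1, a.2.2, a.2.1)

/-- the identity -/
def one3 : P3 := (0, eP, eP)

/-- a vector -/
def vec (m : ℕ) : P3 := (m, eP, eP)

/-- a permutation with its inverse -/
def perm3 (g gi : ℕ) : P3 := (0, g, gi)

/-- conjugate -/
def conj3 (h x : P3) : P3 := mul3 (mul3 h x) (inv3 h)

/-- the triple is well formed -/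
def ok3 (a : P3) : Bool :=
  evB a.1 && isM24P a.2.1 && isM24P a.2.2 && Nat.beq (compP a.2.1 a.2.2) eP

/-- equality modulo the code -/
def eq3 (a b : P3) : Bool :=
  inCode (a.1 ^^^ b.1) && Nat.beq (compP a.2.1 eP) (compP b.2.1 eP)

/-- a basis of the vector part with images under the trio involution -/
def swapTbl : List (ℕ × P3) :=
  [(15, vec 15), (585, vec 585), (2124, vec 2124),
   (3, (3, 610933131142657984725827468219484192, 610933131142657984725827468219484192)),
   (576, (576, 236800286945862178090600553424980000, 236800286945862178090600553424980000)),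
   (4194306, (4194306, 818076703699077250785951928931158048, 818076703699077250785951928931158048)),
   (144, (144, 594097469710726884127915119936080897, 594097469710726884127915119936080897)),
   (2105344, (2105344, 222848521963869917746636076779308099, 222848521963869917746636076779308099)),
   (1048592, (1048592, 791405344973795653868486619446849225, 791405344973795653868486619446849225))]

/-- the dual code words -/
def dualTbl : List ℕ := [855332, 742412, 1431280, 213833, 231532, 622863, 1525008, 504864, 628112]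

/-- the coordinates of a mask -/
def coords (m : ℕ) : List Bool := dualTbl.map fun f => Nat.beq (pop (m &&& f) % 2) 1

/-- the mask with given coordinates -/
def combV : List (ℕ × P3) → List Bool → ℕ
  | [], _ => 0
  | _, [] => 0
  | e :: es, b :: bs => (if b then e.1 else 0) ^^^ combV es bs

/-- the image with given coordinates -/
def combI : List (ℕ × P3) → List Bool → P3
  | [], _ => one3
  | _, [] => one3
  | e :: es, b :: bs => mul3 (if b then e.2 else one3) (combI es bs)

/-- conjugator from the trio of the subspace to the base trio -/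
def kP : ℕ := 647376946295055228976977155820557648

/-- its inverse -/
def kPi : ℕ := 876791521235315210643024357633479147

/-- the permutation commutes with the trio involution -/
noncomputable def fixTrio (g : ℕ) : Bool :=
  J4.Index.moveTo (compP (compP kP g) kPi) J4.Index.baseTrio J4.Index.baseTrio

/-- conjugation by the trio involution, where it is known -/
noncomputable def tau (x : P3) : Option P3 :=
  if inCode (x.1 ^^^ combV swapTbl (coords x.1)) && fixTrio x.2.1 then
    some (mul3 (combI swapTbl (coords x.1)) (perm3 x.2.1 x.2.2))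
  else none

/-- a letter: an element of the normaliser or a conjugate of the trio involution by one -/
inductive Ltr : Type
  | el (p : P3)
  | sw (h : P3)

/-- the inverse of a letter -/
def Ltr.inv : Ltr → Ltr
  | .el p => .el (inv3 p)
  | .sw h => .sw h

/-- a letter is well formed -/
def Ltr.ok : Ltr → Bool
  | .el p => ok3 p
  | .sw h => ok3 h

/-- the inverse of a word -/
def invW (W : List Ltr) : List Ltr := (W.map Ltr.inv).reverse

/-- the action of a letter -/
noncomputable def step : Ltr → P3 → Option P3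
  | .el p, x => some (conj3 p x)
  | .sw h, x => (tau (conj3 (inv3 h) x)).map (conj3 h)

/-- the action of a word -/
noncomputable def actW : List Ltr → P3 → Option P3
  | [], x => some x
  | l :: ls, x => (actW ls x).bind (step l)

/-- generators of the two-core of the first sextet vector -/
def coreGens : List P3 := (wMasks.map vec) ++ sexInvol.map fun a => perm3 a a

/-- the word fixes one element -/
noncomputable def fixW (W : List Ltr) (x : P3) : Bool :=
  (actW W x).any fun y => eq3 y x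

/-- the word centralises a two-core -/
noncomputable def trivAt (q : P3) (W : List Ltr) : Bool :=
  W.all Ltr.ok && ok3 q && coreGens.all fun e => fixW W (conj3 (inv3 q) e)

theorem coreGens_ok : coreGens.all ok3 = true := by decide +kernel

theorem swapTbl_ok : (swapTbl.all fun e => evB e.1 && ok3 e.2) = true := by decide +kernel

theorem k_ok : ok3 (perm3 kP kPi) = true := by decide +kernel

variable {G : Type*} [Group G] {z : G} {A : Type*} [AddCommGroup A] (D : Eleven z A)

/-- the element of a triple -/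
noncomputable def ne (p : P3) : G := D.vm p.1 * D.L (el p.2.1)

/-- the triple is valid -/
def Ok (p : P3) : Prop :=
  Ev p.1 ∧ ∃ σ : M24, Rep (σ : Equiv.Perm GolayPt) p.2.1 ∧
    Rep ((σ⁻¹ : M24) : Equiv.Perm GolayPt) p.2.2

theorem ev_of_evB {m : ℕ} (h : evB m = true) : Ev m := by
  simp only [evB, Bool.and_eq_true, Nat.blt_eq, Nat.beq_eq] at h
  exact ev_of_check h.1 h.2

theorem Ok.of_ok3 {a : P3} (h : ok3 a = true) : Ok a := by
  simp only [ok3, Bool.and_eq_true, Nat.beq_eq] at h
  obtain ⟨⟨⟨h1, h2⟩, h3⟩, h4⟩ := h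
  obtain ⟨σ, hσ, hr⟩ := exists_rep_M24 h2
  obtain ⟨τ, hτ, hr'⟩ := exists_rep_M24 h3
  refine ⟨ev_of_evB h1, ⟨σ, hσ⟩, hr, ?_⟩
  have e : σ * τ = 1 := (hr.mul hr').inj (by rw [h4]; exact rep_one)
  show Rep (σ⁻¹) _
  rwa [inv_eq_of_mul_eq_one_right e]

theorem Ok.mul {a b : P3} (ha : Ok a) (hb : Ok b) : Ok (mul3 a b) := by
  obtain ⟨h1, σ, hs, hs'⟩ := ha
  obtain ⟨k1, τ, ht, ht'⟩ := hb
  refine ⟨h1.xor (ev_of_rep hs k1), σ * τ, hs.mul ht, ?_⟩
  rw [mul_inv_rev]
  exact ht'.mul hs'

theorem Ok.inv {a : P3} (ha : Ok a) : Ok (inv3 a) := by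
  obtain ⟨h1, σ, hs, hs'⟩ := ha
  exact ⟨ev_of_rep hs' h1, σ⁻¹, hs', by rwa [inv_inv]⟩

theorem Ok.conj {h x : P3} (hh : Ok h) (hx : Ok x) : Ok (conj3 h x) := (hh.mul hx).mul hh.inv

theorem ok_one3 : Ok one3 :=
  ⟨ev_zero, 1, rep_one, by rw [inv_one]; exact rep_one⟩

theorem ok_vec {m : ℕ} (h : Ev m) : Ok (vec m) :=
  ⟨h, 1, rep_one, by rw [inv_one]; exact rep_one⟩

theorem ok_perm3 {a : P3} (h : Ok a) : Ok (perm3 a.2.1 a.2.2) := ⟨ev_zero, h.2⟩

theorem ne_eq {a : P3} {σ : M24} (h : Rep (σ : Equiv.Perm GolayPt) a.2.1) :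
    ne D a = D.vm a.1 * D.L σ := by rw [ne, el_eq h]

theorem ne_vec (m : ℕ) : ne D (vec m) = D.vm m := by
  rw [ne, vec, el_eP, D.L_one, mul_one]

theorem ne_perm3 (g gi : ℕ) : ne D (perm3 g gi) = D.L (el g) := by
  rw [ne, perm3, D.vm_zero, one_mul]

theorem ne_one3 : ne D one3 = 1 := by rw [one3, ne, el_eP, D.L_one, D.vm_zero, one_mul]

theorem ne_mul {a b : P3} (ha : Ok a) (hb : Ok b) : ne D (mul3 a b) = ne D a * ne D b := by
  obtain ⟨h1, σ, hs, hs'⟩ := ha
  obtain ⟨k1, τ, ht, ht'⟩ := hb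
  rw [ne_eq D hs, ne_eq D ht, ne_eq D (a := mul3 a b) (σ := σ * τ) (hs.mul ht)]
  show D.vm (a.1 ^^^ actP a.2.1 b.1) * D.L (σ * τ) = _
  rw [D.vm_xor, ← D.L_vm hs k1, D.L_mul]
  group

theorem ne_inv {a : P3} (ha : Ok a) : ne D (inv3 a) = (ne D a)⁻¹ := by
  obtain ⟨h1, σ, hs, hs'⟩ := ha
  rw [ne_eq D hs, ne_eq D (a := inv3 a) (σ := σ⁻¹) hs']
  show D.vm (actP a.2.2 a.1) * D.L σ⁻¹ = _
  rw [← D.L_vm hs' h1, mul_inv_rev, D.vm_inv, D.L_inv]
  group

theorem ne_conj {h x : P3} (hh : Ok h) (hx : Ok x) :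
    ne D (conj3 h x) = ne D h * ne D x * (ne D h)⁻¹ := by
  rw [conj3, ne_mul D (hh.mul hx) hh.inv, ne_mul D hh hx, ne_inv D hh]

theorem ne_eq3 {a b : P3} (ha : Ok a) (hb : Ok b) (h : eq3 a b = true) : ne D a = ne D b := by
  simp only [eq3, Bool.and_eq_true, Nat.beq_eq] at h
  obtain ⟨h1, σ, hs, -⟩ := ha
  obtain ⟨k1, τ, ht, -⟩ := hb
  have hr : ∀ {π : Equiv.Perm GolayPt} {g : ℕ}, Rep π g → Rep π (compP g eP) := fun hg => by
    have h' := hg.mul rep_one
    rwa [mul_one] at h'
  have e : σ = τ := Subtype.ext ((hr hs).inj (by rw [h.2]; exact hr ht))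
  rw [ne_eq D hs, ne_eq D ht, e, D.vm_eq h1 k1 h.1]

/-- the value of a letter -/
noncomputable def Ltr.val (t : G) : Ltr → G
  | .el p => ne D p
  | .sw h => ne D h * t * (ne D h)⁻¹

/-- the value of a word -/
noncomputable def valW (t : G) (W : List Ltr) : G := (W.map (Ltr.val D t)).prod

theorem valW_append (t : G) (U W : List Ltr) : valW D t (U ++ W) = valW D t U * valW D t W := by
  simp [valW]

theorem valW_cons (t : G) (l : Ltr) (W : List Ltr) :
    valW D t (l :: W) = Ltr.val D t l * valW D t W := by simp [valW]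

theorem valW_nil (t : G) : valW D t [] = 1 := rfl

variable {t : G} (S : Swap D t)
include S

theorem valW_invW : ∀ {W : List Ltr}, W.all Ltr.ok = true →
    valW D t (invW W) = (valW D t W)⁻¹ := by
  intro W
  induction W with
  | nil => intro _; simp [invW, valW]
  | cons l W ih =>
    intro h
    rw [List.all_cons, Bool.and_eq_true] at h
    have hl : Ltr.val D t l.inv = (Ltr.val D t l)⁻¹ := by
      cases l with
      | el p => exact ne_inv D (Ok.of_ok3 h.1)
      | sw x =>
        show ne D x * t * (ne D x)⁻¹ = (ne D x * t * (ne D x)⁻¹)⁻¹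
        rw [mul_inv_rev, mul_inv_rev, inv_inv, inv_eq_of_mul_eq_one_right S.sq, mul_assoc]
    rw [show invW (l :: W) = invW W ++ [l.inv] by simp [invW], valW_append, ih h.2, valW_cons,
      valW_cons, valW_nil, mul_one, mul_inv_rev, hl]

theorem swap_conj (a b : G) : t * (a * b) * t = (t * a * t) * (t * b * t) := by
  calc t * (a * b) * t = t * a * (t * t) * b * t := by rw [S.sq]; group
    _ = _ := by group

theorem swap_basis : ∀ e ∈ swapTbl, t * D.vm e.1 * t = ne D e.2 := by
  have hz : ∀ a ∈ zGens, t * D.vm a * t = ne D (vec a) := fun a ha => by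
    rw [ne_vec, mul_assoc, S.comm_z a ha, ← mul_assoc, S.sq, one_mul]
  have hm : ∀ i < 6, t * D.vm (vMasks.getD (3 + i) 0) * t =
      ne D (vMasks.getD (3 + i) 0, uMasks.getD i 0, uMasks.getD i 0) := S.move
  have e1 : vMasks = [15, 585, 4194819, 3, 576, 4194306, 144, 2105344, 1048592] := by decide +kernel
  have e2 : uMasks = [610933131142657984725827468219484192, 236800286945862178090600553424980000,
      818076703699077250785951928931158048, 594097469710726884127915119936080897,
      222848521963869917746636076779308099, 791405344973795653868486619446849225] := by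
    decide +kernel
  rw [e1, e2] at hm
  intro e he
  simp only [swapTbl, List.mem_cons, List.not_mem_nil, or_false] at he
  rcases he with rfl | rfl | rfl | rfl | rfl | rfl | rfl | rfl | rfl
  · exact hz 15 (by simp [zGens])
  · exact hz 585 (by simp [zGens])
  · exact hz 2124 (by simp [zGens])
  · exact hm 0 (by norm_num)
  · exact hm 1 (by norm_num)
  · exact hm 2 (by norm_num)
  · exact hm 3 (by norm_num)
  · exact hm 4 (by norm_num)
  · exact hm 5 (by norm_num)

theorem swap_comb : ∀ (l : List (ℕ × P3)), (∀ e ∈ l, e ∈ swapTbl) → ∀ bs : List Bool,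
    Ok (combI l bs) ∧ Ev (combV l bs) ∧ t * D.vm (combV l bs) * t = ne D (combI l bs) := by
  intro l
  induction l with
  | nil =>
    intro _ bs
    exact ⟨ok_one3, ev_zero, by simp [combV, combI, D.vm_zero, ne_one3, S.sq]⟩
  | cons e es ih =>
    intro hl bs
    cases bs with
    | nil => exact ⟨ok_one3, ev_zero, by simp [combV, combI, D.vm_zero, ne_one3, S.sq]⟩
    | cons b bs =>
      obtain ⟨i1, i2, i3⟩ := ih (fun a ha => hl a (List.mem_cons_of_mem _ ha)) bs
      have hok := List.all_eq_true.1 swapTbl_ok e (hl e List.mem_cons_self)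
      simp only [Bool.and_eq_true] at hok
      cases b with
      | false =>
        simp only [combV, combI, Bool.false_eq_true, if_false, Nat.zero_xor]
        exact ⟨ok_one3.mul i1, i2, by rw [ne_mul D ok_one3 i1, ne_one3, one_mul, i3]⟩
      | true =>
        simp only [combV, combI, if_true]
        refine ⟨(Ok.of_ok3 hok.2).mul i1, (ev_of_evB hok.1).xor i2, ?_⟩
        rw [D.vm_xor, swap_conj D S, ne_mul D (Ok.of_ok3 hok.2) i1, i3,
          swap_basis D S e (hl e List.mem_cons_self)]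

omit S in
theorem gens_words :
    (Nat.beq (compP (compP (compP kPi J4.mAa) kP) eP)
      (compP ([y2P, yP, yP, yP, yP, y2P, y2P, y2P, rhoP, uMasks.getD 0 0, sP,
        uMasks.getD 2 0].foldl compP eP) eP) &&
    Nat.beq (compP (compP (compP kPi J4.Index.stabEi) kP) eP)
      (compP ([yP, yP, y2P, y2P, y2P, y2P, yP, yP, yP, sP, uMasks.getD 0 0, rhoP,
        uMasks.getD 5 0].foldl compP eP) eP)) = true := by
  decide +kernel

theorem comm_trio {g gi : ℕ} (hg : Ok (perm3 g gi)) (h : fixTrio g = true) :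
    t * D.L (el g) * t = D.L (el g) := by
  obtain ⟨-, σ, hσ, hσ'⟩ := hg
  obtain ⟨-, κ, hκ, hκ'⟩ := Ok.of_ok3 k_ok
  have hr : Rep ((κ * σ * κ⁻¹ : M24) : Equiv.Perm GolayPt) (compP (compP kP g) kPi) :=
    (hκ.mul hσ).mul hκ'
  obtain ⟨-, -, e⟩ := J4.Index.moveTo_spec hr h
  have hmem : κ * σ * κ⁻¹ ∈ Subgroup.closure {J4.M24Iso.ga, J4.Index.ge} :=
    J4.Index.stab_eq ▸ e
  -- the permutations commuting with the involution
  let C : Subgroup M24 := (Subgroup.centralizer ({t} : Set G)).comap (Lhom D)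
  have hC : ∀ τ : M24, τ ∈ C ↔ D.L τ * t = t * D.L τ := fun τ =>
    Subgroup.mem_centralizer_singleton_iff
  have hgen : ∀ a ∈ [yP, y2P, rhoP, sP] ++ uMasks, RepIn M24 a ∧ el a ∈ C := by
    intro a ha
    simp only [List.mem_append, List.mem_cons, List.not_mem_nil, or_false] at ha
    obtain ⟨h1, h2, h3, -, h5, -⟩ := packs
    rcases ha with (rfl | rfl | rfl | rfl) | ha
    · exact ⟨h1, (hC _).2 S.comm_y⟩
    · exact ⟨h5, (hC _).2 S.comm_y2⟩
    · exact ⟨h3, (hC _).2 S.comm_rho⟩
    · exact ⟨h2, (hC _).2 S.comm_s⟩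
    · exact ⟨repIn_uMask ha, (hC _).2 (S.comm_u a ha)⟩
  have key : ∀ (l : List ℕ), (∀ a ∈ l, a ∈ [yP, y2P, rhoP, sP] ++ uMasks) →
      ∀ a0, RepIn M24 a0 → el a0 ∈ C →
      RepIn M24 (l.foldl compP a0) ∧ el (l.foldl compP a0) ∈ C := by
    intro l
    induction l with
    | nil => intro _ a0 h0 h0'; exact ⟨h0, h0'⟩
    | cons a l ih =>
      intro hl a0 h0 h0'
      obtain ⟨ha, ha'⟩ := hgen a (hl a List.mem_cons_self)
      rw [List.foldl_cons]
      refine ih (fun b hb => hl b (List.mem_cons_of_mem _ hb)) (compP a0 a) (h0.comp ha) ?_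
      rw [el_mul h0 ha]
      exact mul_mem h0' ha'
  have hw := gens_words
  simp only [Bool.and_eq_true, Nat.beq_eq] at hw
  have hgen2 : ∀ {τ : M24} {a : ℕ} (l : List ℕ), Rep (τ : Equiv.Perm GolayPt) a →
      (∀ b ∈ l, b ∈ [yP, y2P, rhoP, sP] ++ uMasks) →
      compP (compP (compP kPi a) kP) eP = compP (l.foldl compP eP) eP → κ⁻¹ * τ * κ ∈ C := by
    intro τ a l hτ hl e'
    obtain ⟨hl1, hl2⟩ := key l hl eP repIn_eP (by rw [el_eP]; exact one_mem _)
    have h1 : Rep ((κ⁻¹ * τ * κ : M24) : Equiv.Perm GolayPt) (compP (compP (compP kPi a) kP) eP) := by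
      have h' := ((hκ'.mul hτ).mul hκ).mul rep_one
      rwa [mul_one] at h'
    have h2 : Rep ((el (l.foldl compP eP) : M24) : Equiv.Perm GolayPt)
        (compP (l.foldl compP eP) eP) := by
      have h' := (rep_el hl1).mul rep_one
      rwa [mul_one] at h'
    rw [e'] at h1
    rwa [show κ⁻¹ * τ * κ = el (l.foldl compP eP) from Subtype.ext (h1.inj h2)]
  have hsub : Subgroup.closure {J4.M24Iso.ga, J4.Index.ge} ≤ C.comap (MulAut.conj κ⁻¹).toMonoidHom := by
    rw [Subgroup.closure_le]
    rintro τ (rfl | rfl)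
    · show κ⁻¹ * _ * κ⁻¹⁻¹ ∈ C
      rw [inv_inv]
      exact hgen2 _ J4.Index.rep_ga (by decide +kernel) hw.1
    · show κ⁻¹ * _ * κ⁻¹⁻¹ ∈ C
      rw [inv_inv]
      exact hgen2 _ (J4.Index.stabE_word ▸ J4.Index.rep_wEl J4.Index.wE) (by decide +kernel) hw.2
  have h2 := hsub hmem
  have h3 : σ ∈ C := by
    have h' : κ⁻¹ * (κ * σ * κ⁻¹) * κ⁻¹⁻¹ ∈ C := h2
    rwa [show κ⁻¹ * (κ * σ * κ⁻¹) * κ⁻¹⁻¹ = σ by group] at h'
  rw [show el g = σ from el_eq hσ]
  rw [hC] at h3
  rw [mul_assoc, h3, ← mul_assoc, S.sq, one_mul]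

theorem tau_spec {x y : P3} (hx : Ok x) (h : tau x = some y) :
    Ok y ∧ t * ne D x * t = ne D y := by
  rw [tau] at h
  split at h
  · rename_i hc
    simp only [Bool.and_eq_true] at hc
    obtain rfl := Option.some.inj h
    obtain ⟨i1, i2, i3⟩ := swap_comb D S swapTbl (fun _ ha => ha) (coords x.1)
    refine ⟨i1.mul (ok_perm3 hx), ?_⟩
    rw [ne_mul D i1 (ok_perm3 hx), ne_perm3, ne, swap_conj D S, D.vm_eq hx.1 i2 hc.1, i3,
      comm_trio D S (gi := x.2.2) (ok_perm3 hx) hc.2]
  · simp at h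

theorem step_spec {l : Ltr} (hl : l.ok = true) {x y : P3} (hx : Ok x) (h : step l x = some y) :
    Ok y ∧ Ltr.val D t l * ne D x * (Ltr.val D t l)⁻¹ = ne D y := by
  cases l with
  | el p =>
    obtain rfl := Option.some.inj h
    exact ⟨(Ok.of_ok3 hl).conj hx, (ne_conj D (Ok.of_ok3 hl) hx).symm⟩
  | sw p =>
    have hp := Ok.of_ok3 (a := p) hl
    obtain ⟨u, hu, rfl⟩ := Option.map_eq_some_iff.1 h
    obtain ⟨h1, h2⟩ := tau_spec D S (hp.inv.conj hx) hu
    refine ⟨hp.conj h1, ?_⟩
    rw [ne_conj D hp h1, ← h2, ne_conj D hp.inv hx, ne_inv D hp]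
    show ne D p * t * (ne D p)⁻¹ * ne D x * (ne D p * t * (ne D p)⁻¹)⁻¹ = _
    simp only [mul_inv_rev, inv_inv, inv_eq_of_mul_eq_one_right S.sq, mul_assoc]

theorem actW_spec : ∀ {W : List Ltr}, W.all Ltr.ok = true → ∀ {x y : P3}, Ok x →
    actW W x = some y → Ok y ∧ valW D t W * ne D x * (valW D t W)⁻¹ = ne D y := by
  intro W
  induction W with
  | nil =>
    intro _ x y hx h
    obtain rfl := Option.some.inj h
    exact ⟨hx, by simp [valW]⟩
  | cons l W ih =>
    intro hW x y hx h
    rw [List.all_cons, Bool.and_eq_true] at hW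
    obtain ⟨u, hu, hstep⟩ := Option.bind_eq_some_iff.1 h
    obtain ⟨h1, h2⟩ := ih hW.2 hx hu
    obtain ⟨h3, h4⟩ := step_spec D S hW.1 h1 hstep
    refine ⟨h3, ?_⟩
    rw [← h4, ← h2, valW_cons]
    group

theorem fixW_spec {W : List Ltr} (hW : W.all Ltr.ok = true) {x : P3} (hx : Ok x)
    (h : fixW W x = true) : valW D t W * ne D x = ne D x * valW D t W := by
  obtain ⟨y, hy, he⟩ : ∃ y, actW W x = some y ∧ eq3 y x = true := by
    unfold fixW at h
    cases hh : actW W x with
    | none => rw [hh] at h; simp at h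
    | some y => rw [hh] at h; exact ⟨y, rfl, by simpa using h⟩
  obtain ⟨h1, h2⟩ := actW_spec D S hW hx hy
  exact mul_inv_eq_iff_eq_mul.1 (h2.trans (ne_eq3 D h1 hx he))

end CfsgLib.Spor.JankoFourIso
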