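import Cfsg.Agent.Lib.Spor.JankoFourIso.Engine
import Cfsg.Agent.Lib.Spor.JankoFourCentral.LocalPairs

/-!
Equality criteria for words: an element centralising the two-core of a vector of sextet type is
trivial or that vector, and the classes of some involutions.
-/

set_option autoImplicit false
set_option maxRecDepth 100000
set_option linter.unusedSectionVars false

namespace CfsgLib.Spor.JankoFourIso

open Cfsg CfsgLib.Spor CfsgLib.Spor.JankoFourCentral CfsgLib.Spor.JankoFourPentad
open scoped Pointwise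

/-- the word centralises a two-core with the given centre -/
noncomputable def trivAtC (c : ℕ) (q : P3) (W : List Ltr) : Bool :=
  trivAt q W && evB c && eq3 (conj3 (inv3 q) (vec 15)) (vec c)

/-- the word centralises two cores with different centres -/
noncomputable def trivTwo (c : ℕ) (q : P3) (c' : ℕ) (q' : P3) (W : List Ltr) : Bool :=
  trivAtC c q W && trivAtC c' q' W && !inCode (c ^^^ c')

/-- the conjugate of the trio involution by a word after a letter -/
def palW (P : List Ltr) (h : P3) : List Ltr := P ++ [Ltr.sw h] ++ invW P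

/-- a certificate that an element is conjugate to a duad vector -/
noncomputable def duadCert (W : List Ltr) (a : ℕ) (n : P3) : Bool :=
  W.all Ltr.ok && ok3 n && evB a && Nat.beq (pop a) 2 &&
    (actW W (vec a)).any fun y => eq3 y n

/-- the conjugate of the trio involution times the vector has the other class -/
noncomputable def palCert (P : List Ltr) (h : P3) (a c : ℕ) : Bool :=
  P.all Ltr.ok && ok3 h && evB c && fixW P (vec c) &&
    eq3 (conj3 (inv3 h) (vec c)) (vec a) && memC (spanList zGens) a && !inCode a && evB a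

variable {G : Type*} [Group G] {z : G} {A : Type*} [AddCommGroup A] (D : Eleven z A)

theorem conjugate_fix {g x : G} (Q : G) (h : g * (Q⁻¹ * x * Q) = Q⁻¹ * x * Q * g) :
    Q * g * Q⁻¹ * x = x * (Q * g * Q⁻¹) := by
  calc Q * g * Q⁻¹ * x = Q * (g * (Q⁻¹ * x * Q)) * Q⁻¹ := by group
    _ = Q * (Q⁻¹ * x * Q * g) * Q⁻¹ := by rw [h]
    _ = _ := by group

theorem valW_el (t : G) (p : P3) : valW D t [Ltr.el p] = ne D p := by simp [valW, Ltr.val]

theorem valW_sw (t : G) (h : P3) : valW D t [Ltr.sw h] = ne D h * t * (ne D h)⁻¹ := by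
  simp [valW, Ltr.val]

variable [Finite G]

/-- an element centralising the core of the first sextet vector is trivial or that vector -/
theorem core_centralizer (hJ : Cfsg.IsOfJankoFourTypeAt z) {g : G}
    (h : ∀ x ∈ D.E₀, g * x = x * g) : g = 1 ∨ g = D.z₀ := by
  have hz : orderOf z = 2 := hJ.choose_spec.1
  obtain ⟨-, -, ⟨⟨-, -, -⟩, hZ⟩, -, hcent, -⟩ := hJ
  set y := D.g₀⁻¹ * g * D.g₀ with hy
  have hcore : ∀ x ∈ twoCoreOfCentralizer z, y * x = x * y := by
    intro x hx
    have hx' : D.g₀ * x * D.g₀⁻¹ ∈ D.E₀ := D.mem_E₀.2 (by simpa [mul_assoc] using hx)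
    calc y * x = D.g₀⁻¹ * (g * (D.g₀ * x * D.g₀⁻¹)) * D.g₀ := by rw [hy]; group
      _ = D.g₀⁻¹ * (D.g₀ * x * D.g₀⁻¹ * g) * D.g₀ := by rw [h _ hx']
      _ = _ := by rw [hy]; group
  have hzc : z ∈ twoCoreOfCentralizer z := by
    have h0 := D.mem_E₀.1 (D.z₀_mem hz)
    rw [← D.g₀_conj] at h0
    simpa [mul_assoc] using h0
  have hymem : y ∈ twoCoreOfCentralizer z := by
    refine hcent (Subgroup.mem_inf.2 ⟨Subgroup.mem_centralizer_singleton_iff.2 (hcore z hzc),
      Subgroup.mem_centralizer_iff.2 fun x hx => (hcore x hx).symm⟩)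
  have hzmem : (⟨z, hzc⟩ : ↥(twoCoreOfCentralizer z)) ∈
      Subgroup.center ↥(twoCoreOfCentralizer z) := by
    refine Subgroup.mem_center_iff.2 fun x => Subtype.ext ?_
    obtain ⟨u, -, hu⟩ := Subgroup.mem_map.1 x.2
    show (x : G) * z = z * x
    rw [← hu]
    exact Subgroup.mem_centralizer_singleton_iff.1 u.2
  have hyc : (⟨y, hymem⟩ : ↥(twoCoreOfCentralizer z)) ∈
      Subgroup.center ↥(twoCoreOfCentralizer z) :=
    Subgroup.mem_center_iff.2 fun x => Subtype.ext (hcore x x.2).symm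
  obtain ⟨w, -, huniq⟩ :=
    (Nat.card_eq_two_iff' (1 : Subgroup.center ↥(twoCoreOfCentralizer z))).1 hZ
  by_cases hy1 : y = 1
  · left
    have : g = D.g₀ * y * D.g₀⁻¹ := by rw [hy]; group
    rw [this, hy1]; group
  · right
    have hz1 : z ≠ 1 := fun e => by rw [e, orderOf_one] at hz; exact absurd hz (by norm_num)
    have e1 := huniq ⟨_, hyc⟩ (fun e => hy1 (congrArg (fun a => ((a : ↥(twoCoreOfCentralizer z)) : G)) (congrArg Subtype.val e)))
    have e2 := huniq ⟨_, hzmem⟩ (fun e => hz1 (congrArg (fun a => ((a : ↥(twoCoreOfCentralizer z)) : G)) (congrArg Subtype.val e)))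
    have e3 : y = z := congrArg (fun a : Subgroup.center ↥(twoCoreOfCentralizer z) =>
      ((a : ↥(twoCoreOfCentralizer z)) : G)) (e1.trans e2.symm)
    calc g = D.g₀ * y * D.g₀⁻¹ := by rw [hy]; group
      _ = D.z₀ := by rw [e3, D.g₀_conj]

variable {t : G} (S : Swap D t) (hJ : Cfsg.IsOfJankoFourTypeAt z)
include S hJ

/-- a word fixing the generators of a core is trivial or the centre of the core -/
theorem trivAtC_spec {c : ℕ} {q : P3} {W : List Ltr} (h : trivAtC c q W = true) :
    Ev c ∧ (valW D t W = 1 ∨ valW D t W = D.vm c) := by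
  simp only [trivAtC, trivAt, Bool.and_eq_true, List.all_eq_true] at h
  obtain ⟨⟨⟨⟨hW, hq⟩, hfix⟩, hc⟩, hctr⟩ := h
  have hWb : W.all Ltr.ok = true := List.all_eq_true.2 hW
  have hQ : Ok q := Ok.of_ok3 hq
  have hev : Ev c := ev_of_evB hc
  refine ⟨hev, ?_⟩
  set Q := ne D q with hQdef
  set g := valW D t W with hg
  have hgen : ∀ e ∈ coreGens, Q * g * Q⁻¹ * ne D e = ne D e * (Q * g * Q⁻¹) := by
    intro e he
    have hoe : Ok e := Ok.of_ok3 (List.all_eq_true.1 coreGens_ok e he)
    have h1 := fixW_spec D S hWb (hQ.inv.conj hoe) (hfix e he)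
    rw [ne_conj D hQ.inv hoe, ne_inv D hQ, inv_inv] at h1
    exact conjugate_fix Q h1
  have hall : ∀ x ∈ D.E₀, Q * g * Q⁻¹ * x = x * (Q * g * Q⁻¹) := by
    intro x hx
    obtain ⟨w, hw, s, hs, -, rfl⟩ := E₀_subset D hJ hx
    let C : Subgroup G := Subgroup.centralizer ({Q * g * Q⁻¹} : Set G)
    have hC : ∀ y : G, y ∈ C ↔ y * (Q * g * Q⁻¹) = Q * g * Q⁻¹ * y := fun y =>
      Subgroup.mem_centralizer_singleton_iff
    have hv : D.vm w ∈ C := by
      refine spanList_induction (P := fun w => D.vm w ∈ C) (by rw [D.vm_zero]; exact one_mem _)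
        (fun b hb => ?_) (fun a b ha hb => by rw [D.vm_xor]; exact mul_mem ha hb) w hw
      rw [hC, ← ne_vec]
      exact (hgen _ (List.mem_append_left _ (List.mem_map.2 ⟨b, hb, rfl⟩))).symm
    have hl : D.L (el s) ∈ C := by
      rw [hC, ← ne_perm3 D s s]
      exact (hgen _ (List.mem_append_right _ (List.mem_map.2 ⟨s, hs, rfl⟩))).symm
    exact ((hC _).1 (mul_mem hv hl)).symm
  have he : Q⁻¹ * D.z₀ * Q = D.vm c := by
    have h15 : Ok (vec 15) := ok_vec Eleven.ev_fifteen
    have e := ne_eq3 D (hQ.inv.conj h15) (ok_vec hev) hctr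
    rwa [ne_conj D hQ.inv h15, ne_inv D hQ, inv_inv, ne_vec, ne_vec] at e
  rcases core_centralizer D hJ hall with h1 | h1
  · left
    exact conj_eq_one_iff.1 h1
  · right
    rw [← he, ← h1]; group

theorem trivTwo_spec {c c' : ℕ} {q q' : P3} {W : List Ltr} (h : trivTwo c q c' q' W = true) :
    valW D t W = 1 := by
  simp only [trivTwo, Bool.and_eq_true, Bool.not_eq_true'] at h
  obtain ⟨⟨h1, h2⟩, h3⟩ := h
  obtain ⟨e1, a⟩ := trivAtC_spec D S hJ h1
  obtain ⟨e2, b⟩ := trivAtC_spec D S hJ h2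
  rcases a with a | a
  · exact a
  rcases b with b | b
  · exact b
  exfalso
  have : D.vm (c ^^^ c') = 1 := by rw [D.vm_xor, ← a, b, D.vm_sq]
  rw [D.inCode_of_vm_eq_one (e1.xor e2) this] at h3
  exact absurd h3 (by simp)

omit hJ in
theorem valW_palW {P : List Ltr} (hP : P.all Ltr.ok = true) (h : P3) :
    valW D t (palW P h) = valW D t P * (ne D h * t * (ne D h)⁻¹) * (valW D t P)⁻¹ := by
  rw [palW, valW_append, valW_append, valW_sw, valW_invW D S hP]

omit hJ in
theorem isConj_palW {P : List Ltr} (hP : P.all Ltr.ok = true) (h : P3) :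
    IsConj z (valW D t (palW P h)) := by
  rw [valW_palW D S hP]
  exact S.isConj.trans (isConj_iff.2 ⟨valW D t P * ne D h, by group⟩)

omit hJ in
theorem palCert_spec {P : List Ltr} {h : P3} {a c : ℕ} (hc : palCert P h a c = true) :
    ¬ IsConj z (valW D t (palW P h) * D.vm c) := by
  simp only [palCert, Bool.and_eq_true, Bool.not_eq_true'] at hc
  obtain ⟨⟨⟨⟨⟨⟨⟨hP, hh⟩, hevc⟩, hfix⟩, hconj⟩, hmem⟩, hne⟩, heva⟩ := hc
  have hH := Ok.of_ok3 hh
  have hc' := ok_vec (ev_of_evB hevc)
  have hfixv := fixW_spec D S hP hc' hfix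
  rw [ne_vec] at hfixv
  have e := ne_eq3 D (hH.inv.conj hc') (ok_vec (ev_of_evB heva)) hconj
  rw [ne_conj D hH.inv hc', ne_inv D hH, inv_inv, ne_vec, ne_vec] at e
  obtain ⟨b, hb, eb⟩ := exists_memC D (l := zGens) (by decide +kernel) (ev_of_evB heva) hmem
  have hz : D.vm a ∈ Zs D := ⟨b, hb, eb.symm⟩
  have h1 : D.vm a ≠ 1 := fun h0 => by
    rw [D.inCode_of_vm_eq_one (ev_of_evB heva) h0] at hne
    exact absurd hne (by simp)
  intro hcl
  refine S.not_isConj _ hz h1 (hcl.trans (isConj_iff.2 ⟨(valW D t P * ne D h)⁻¹, ?_⟩))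
  rw [valW_palW D S hP, ← e]
  have e' : (valW D t P)⁻¹ * D.vm c * valW D t P = D.vm c := by
    rw [mul_assoc, ← hfixv, inv_mul_cancel_left]
  calc (valW D t P * ne D h)⁻¹ * (valW D t P * (ne D h * t * (ne D h)⁻¹) * (valW D t P)⁻¹ *
        D.vm c) * ((valW D t P * ne D h)⁻¹)⁻¹
      = t * ((ne D h)⁻¹ * ((valW D t P)⁻¹ * D.vm c * valW D t P) * ne D h) := by group
    _ = _ := by rw [e']

omit hJ in
theorem duadCert_spec {W : List Ltr} {a : ℕ} {n : P3} (h : duadCert W a n = true) :
    ¬ IsConj z (ne D n) := by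
  simp only [duadCert, Bool.and_eq_true, Nat.beq_eq] at h
  obtain ⟨⟨⟨⟨hW, hn⟩, ha⟩, hpop⟩, hact⟩ := h
  cases hh : actW W (vec a) with
  | none => rw [hh] at hact; simp at hact
  | some y =>
    rw [hh] at hact
    obtain ⟨hy, e⟩ := actW_spec D S hW (ok_vec (ev_of_evB ha)) hh
    have e2 := ne_eq3 D hy (Ok.of_ok3 hn) (by simpa using hact)
    rw [ne_vec, e2] at e
    intro hcl
    refine (D.not_isConj_duad (s := toSet a) (by rw [card_toSet]; exact hpop)).1 ?_
    rw [D.vs_toSet]
    exact hcl.trans (isConj_iff.2 ⟨(valW D t W)⁻¹, by rw [← e]; group⟩)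

/-- a conjugate of the trio involution is the given element of the normaliser -/
theorem pal_eq_ne {c a : ℕ} {q n : P3} {P U : List Ltr} {h : P3} (hn : ok3 n = true)
    (hP : P.all Ltr.ok = true)
    (h1 : trivAtC c q (palW P h ++ [Ltr.el (inv3 n)]) = true)
    (h2 : duadCert U a (mul3 (vec c) n) = true) :
    valW D t (palW P h) = ne D n := by
  obtain ⟨hc, h'⟩ := trivAtC_spec D S hJ h1
  rw [valW_append, valW_el, ne_inv D (Ok.of_ok3 hn)] at h'
  rcases h' with h' | h'
  · exact mul_inv_eq_one.1 h'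
  · exfalso
    refine duadCert_spec D S h2 ?_
    rw [ne_mul D (ok_vec hc) (Ok.of_ok3 hn), ne_vec, ← mul_inv_eq_iff_eq_mul.1 h']
    exact isConj_palW D S hP h

/-- two conjugates of the trio involution are equal -/
theorem pal_eq_pal {c a : ℕ} {q : P3} {P P' : List Ltr} {h h' : P3}
    (hP : P.all Ltr.ok = true)
    (h1 : trivAtC c q (invW (palW P' h') ++ palW P h) = true)
    (hok : (palW P' h').all Ltr.ok = true)
    (h2 : palCert P' h' a c = true) :
    valW D t (palW P h) = valW D t (palW P' h') := by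
  obtain ⟨-, h''⟩ := trivAtC_spec D S hJ h1
  rw [valW_append, valW_invW D S hok] at h''
  rcases h'' with e | e
  · exact (inv_mul_eq_one.1 e).symm
  · exfalso
    refine palCert_spec D S h2 ?_
    rw [← e, mul_inv_cancel_left]
    exact isConj_palW D S hP h

end CfsgLib.Spor.JankoFourIso
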