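import Cfsg.Agent.Lib.Spor.JankoFourCentral.Generate
import Cfsg.Agent.Lib.Spor.J4Cent.Simple
import Cfsg.Agent.Lib.Spor.J4.Index.Base

/-!
A homomorphism of the presented fourth Janko group into a group of Janko-four type that extends the
lift of `M24` and sends the central involution to a vector conjugate to `z` is bijective.
-/

set_option autoImplicit false
set_option maxRecDepth 100000

namespace CfsgLib.Spor.JankoFourIso

open Cfsg CfsgLib.Spor CfsgLib.Spor.JankoFourCentral
open scoped Pointwise symmDiff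

variable {G : Type*} [Group G] [Finite G] {z : G} {A : Type*} [AddCommGroup A]

/-- the centraliser of a conjugate of `z` has the order of the centraliser in the presented group -/
theorem natCard_cent (hJ : Cfsg.IsOfJankoFourTypeAt z) {u : G} (hu : IsConj z u) :
    Nat.card (Subgroup.centralizer ({u} : Set G)) = 21799895040 := by
  obtain ⟨P, hP⟩ := hJ
  obtain ⟨M⟩ := LargeFi.J4.model_of_type hP
  have h : Nat.card (Subgroup.centralizer ({z} : Set G)) = 2 ^ 21 * 10395 := M.card_H
  obtain ⟨c, rfl⟩ := isConj_iff.1 hu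
  have hmap : (Subgroup.centralizer ({z} : Set G)).map (MulAut.conj c).toMonoidHom =
      Subgroup.centralizer ({c * z * c⁻¹} : Set G) := by
    ext g
    rw [Subgroup.mem_centralizer_singleton_iff, Subgroup.mem_map]
    constructor
    · rintro ⟨a, ha, rfl⟩
      rw [Subgroup.mem_centralizer_singleton_iff] at ha
      show c * a * c⁻¹ * (c * z * c⁻¹) = c * z * c⁻¹ * (c * a * c⁻¹)
      calc c * a * c⁻¹ * (c * z * c⁻¹) = c * (a * z) * c⁻¹ := by group
        _ = _ := by rw [ha]; group
    · intro hg
      refine ⟨c⁻¹ * g * c, Subgroup.mem_centralizer_singleton_iff.2 ?_, ?_⟩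
      · calc c⁻¹ * g * c * z = c⁻¹ * (g * (c * z * c⁻¹)) * c := by group
          _ = _ := by rw [hg]; group
      · show c * (c⁻¹ * g * c) * c⁻¹ = g
        group
  rw [← hmap, Subgroup.card_map_of_injective (MulAut.conj c).injective, h]
  norm_num

/-- a homomorphism matching the generators of `M24` and the central involution is bijective -/
theorem bijective_of_hom (hJ : Cfsg.IsOfJankoFourTypeAt z) (D : Eleven z A)
    (φ : Cfsg.Spor.J4 →* G)
    (hx : φ J4.Index.gx = D.L J4.M24Iso.ga) (hy : φ J4.Index.gy = D.L J4.M24Iso.gb)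
    (hV : φ J4Cent.z ∈ D.V) (hcl : IsConj z (φ J4Cent.z)) : Function.Bijective φ := by
  classical
  haveI := CfsgLib.Spor.J4.finite
  haveI := J4Cent.isSimpleGroup
  set u := φ J4Cent.z with hu
  have hu1 : u ≠ 1 := Eleven.isConj_ne_one hJ hcl
  -- injective
  have hinj : Function.Injective φ := by
    rcases (inferInstance : φ.ker.Normal).eq_bot_or_eq_top with h | h
    · exact (MonoidHom.ker_eq_bot_iff _).1 h
    · exact absurd (MonoidHom.mem_ker.1 (h ▸ Subgroup.mem_top J4Cent.z)) hu1
  -- the complement is in the range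
  have hL : ∀ σ : M24, D.L σ ∈ φ.range := by
    intro σ
    let f : M24 →* G :=
      { toFun := D.L, map_one' := D.L_one, map_mul' := D.L_mul }
    have h : (⊤ : Subgroup M24) ≤ φ.range.comap f := by
      rw [← J4.M24Iso.gen_top, Subgroup.closure_le]
      rintro _ (rfl | rfl)
      · exact ⟨J4.Index.gx, hx⟩
      · exact ⟨J4.Index.gy, hy⟩
    exact h (Subgroup.mem_top σ)
  have hK : D.K ≤ φ.range := fun g hg => by
    obtain ⟨σ, rfl⟩ := D.exists_L hg
    exact hL σ
  -- the vectors of sextet type
  have hzV : ∀ v ∈ D.V, IsConj z v → v ∈ φ.range := by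
    intro v hv hvz
    obtain ⟨a, rfl⟩ := (D.mem_V v).1 hv
    obtain ⟨b, hb⟩ := (D.mem_V u).1 hV
    have ha0 : a ≠ 0 := fun e => Eleven.isConj_ne_one hJ hvz (by rw [e, D.ι_zero])
    have hb0 : b ≠ 0 := fun e => hu1 (by rw [← hb, e, D.ι_zero])
    have had : a ∉ D.C.duads := fun h => (D.duad a ha0).1 h hvz
    have hbd : b ∉ D.C.duads := fun h => (D.duad b hb0).1 h (hb ▸ hcl)
    obtain ⟨k, hk⟩ := D.acts.trans_rest hb0 hbd ha0 had
    rw [← hk, D.ι_act, hb]
    exact mul_mem (mul_mem (hK k.2) ⟨J4Cent.z, rfl⟩) (inv_mem (hK k.2))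
  -- every vector
  have hVle : D.V ≤ φ.range := by
    intro v hv
    by_cases hv1 : v = 1
    · rw [hv1]; exact one_mem _
    by_cases hvz : IsConj z v
    · exact hzV v hv hvz
    obtain ⟨P, hP, rfl⟩ := D.exists_duad hv hv1 hvz
    obtain ⟨a, b, hab, rfl⟩ := Finset.card_eq_two.1 hP
    obtain ⟨T, hT, hTc⟩ := Finset.exists_subset_card_eq (n := 3)
      (s := (Finset.univ : Finset GolayPt) \ {a, b}) (by
        rw [Finset.card_sdiff_of_subset (Finset.subset_univ _), hP]; decide)
    have ha : a ∉ T := fun h => by simpa using (Finset.mem_sdiff.1 (hT h)).2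
    have hb : b ∉ T := fun h => by simpa using (Finset.mem_sdiff.1 (hT h)).2
    have he : ({a, b} : Finset GolayPt) = insert a T ∆ insert b T := by
      ext p
      simp only [Finset.mem_symmDiff, Finset.mem_insert, Finset.mem_singleton]
      constructor
      · rintro (rfl | rfl) <;> simp [ha, hb, hab, Ne.symm hab]
      · rintro (⟨rfl | h, h'⟩ | ⟨rfl | h, h'⟩)
        · exact Or.inl rfl
        · exact absurd h (fun h => h' (Or.inr h))
        · exact Or.inr rfl
        · exact absurd h (fun h => h' (Or.inr h))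
    have h4 : ∀ c, c ∉ T → D.vs (insert c T) ∈ φ.range := fun c hc =>
      hzV _ (D.vs_mem _) (D.isConj_tetrad (by rw [Finset.card_insert_of_notMem hc, hTc]))
    show D.ι (D.C.S {a, b}) ∈ φ.range
    rw [he, D.C.S_symmDiff, D.ι_add]
    exact mul_mem (h4 a ha) (h4 b hb)
  have hN : Subgroup.normalizer (D.V : Set G) ≤ φ.range := D.sup ▸ sup_le hK hVle
  -- the centraliser of the image of the central involution
  have hC : Subgroup.centralizer ({u} : Set G) ≤ φ.range := by
    have hle : J4Cent.Cz.map φ ≤ Subgroup.centralizer ({u} : Set G) := by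
      rintro _ ⟨c, hc, rfl⟩
      rw [Subgroup.mem_centralizer_singleton_iff, hu, ← map_mul, ← map_mul,
        Subgroup.mem_centralizer_singleton_iff.1 hc]
    rw [← Subgroup.eq_of_le_of_card_ge hle (by
      rw [Subgroup.card_map_of_injective hinj, J4Cent.natCard_Cz, natCard_cent hJ hcl])]
    rintro _ ⟨c, -, rfl⟩
    exact ⟨c, rfl⟩
  exact ⟨hinj, MonoidHom.range_eq_top.1 (D.eq_top hJ φ.range hN hV hcl hC)⟩

end CfsgLib.Spor.JankoFourIso
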