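import Cfsg.Agent.Lib.Spor.JankoFourIso.Rels
import Cfsg.Agent.Lib.Spor.JankoFourIso.Onto

/-!
The homomorphism of the presented fourth Janko group into a group of Janko-four type given by the
involution of a trio.
-/

set_option autoImplicit false
set_option maxRecDepth 100000
set_option linter.unusedSectionVars false

namespace CfsgLib.Spor.JankoFourIso

open Cfsg CfsgLib.Spor CfsgLib.Spor.JankoFourCentral CfsgLib.Spor.JankoFourPentad
open scoped Pointwise

/-- the word of the marked involution -/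
def markW : List ℕ :=
  (List.replicate 3 ([1] ++ [0, 1, 0, 3, 0, 3, 0, 3, 0, 3] ++ [2] ++
    [1, 0, 1, 0, 1, 0, 1, 0, 3, 0])).flatten

theorem markW_ok : (J4Cent.lt36 markW && J4Cent.lt36 [4] && J4Cent.sameM markW [4]) = true := by
  decide +kernel

theorem foldl_addW_getD : ∀ (ds : List (List ℕ)) (acc : List Cfsg.Spor.J4) {i : ℕ}, i < acc.length →
    (ds.foldl J4Cent.addW acc).getD i 1 = acc.getD i 1 := by
  intro ds
  induction ds with
  | nil => intro acc i _; rfl
  | cons d ds ih =>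
    intro acc i hi
    rw [List.foldl_cons, ih _ (by rw [J4Cent.addW, List.length_append]; omega), J4Cent.addW,
      List.getD_append _ _ _ _ hi]

theorem mark_eq : (markW.map fun i => J4Cent.vals.getD i 1).prod = J4Cent.z := by
  have h := J4Cent.El_eq_of_sameM markW_ok
  rw [J4Cent.El_four, J4Cent.El] at h
  rw [inv_eq_iff_eq_inv] at h
  rw [h, J4Cent.z, J4Cent.e_inv]

variable {G : Type*} [Group G] [Finite G] {z : G} {A : Type*} [AddCommGroup A] (D : Eleven z A)

/-- the images of the generators -/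
noncomputable def genImg (t : G) : Cfsg.Spor.J4.Gen → G
  | .x => D.L J4.M24Iso.ga
  | .y => D.L J4.M24Iso.gb
  | .t => tG D t

theorem ga_sq : D.L J4.M24Iso.ga ^ 2 = 1 := by
  rw [← Lhom_apply, ← map_pow, J4.M24Iso.gRels.sq, map_one]

theorem ga_inv : (D.L J4.M24Iso.ga)⁻¹ = D.L J4.M24Iso.ga :=
  inv_eq_of_mul_eq_one_right (by rw [← pow_two, ga_sq D])

omit [Finite G] in
theorem rels_L : J4.M24Rels (D.L J4.M24Iso.ga) (D.L J4.M24Iso.gb) :=
  J4.M24Iso.gRels.map (Lhom D)

variable {t : G} (S : Swap D t)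
include S

theorem tG_sq : tG D t * tG D t = 1 := by
  rw [tG]
  calc D.L (el kP) * t * (D.L (el kP))⁻¹ * (D.L (el kP) * t * (D.L (el kP))⁻¹)
      = D.L (el kP) * (t * t) * (D.L (el kP))⁻¹ := by group
    _ = 1 := by rw [S.sq]; group

omit S in
theorem comm_check :
    ((ok3 (perm3 (compP (compP kPi J4.mAa) kP) (compP (compP kPi J4.mAa) kP)) &&
      fixTrio (compP (compP kPi J4.mAa) kP)) &&
    (ok3 (perm3 (compP (compP kPi (J4.pWord J4.Index.wE)) kP)
        (compP (compP kPi (J4.pWord (J4.Index.winv J4.Index.wE))) kP)) &&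
      fixTrio (compP (compP kPi (J4.pWord J4.Index.wE)) kP))) = true := by decide +kernel

theorem tG_comm {σ : M24} {a gi : ℕ} (hσ : Rep (σ : Equiv.Perm GolayPt) a)
    (h : (ok3 (perm3 (compP (compP kPi a) kP) gi) && fixTrio (compP (compP kPi a) kP)) = true) :
    D.L σ * tG D t = tG D t * D.L σ := by
  simp only [Bool.and_eq_true] at h
  have hc := comm_trio D S (Ok.of_ok3 h.1) h.2
  obtain ⟨-, κ, hκ, hκ'⟩ := Ok.of_ok3 k_ok
  have e : el (compP (compP kPi a) kP) = κ⁻¹ * σ * κ := el_eq ((hκ'.mul hσ).mul hκ)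
  rw [e, D.L_mul, D.L_mul, D.L_inv] at hc
  rw [tG, show el kP = κ from el_eq hκ]
  have hc' : (D.L κ)⁻¹ * D.L σ * D.L κ * t = t * ((D.L κ)⁻¹ * D.L σ * D.L κ) := by
    conv_lhs => rw [← hc]
    simp only [mul_assoc, S.sq, mul_one]
  calc D.L σ * (D.L κ * t * (D.L κ)⁻¹)
      = D.L κ * ((D.L κ)⁻¹ * D.L σ * D.L κ * t) * (D.L κ)⁻¹ := by group
    _ = _ := by rw [hc']; group

theorem tG_comm_ga : D.L J4.M24Iso.ga * tG D t = tG D t * D.L J4.M24Iso.ga := by
  have h := comm_check
  simp only [Bool.and_eq_true] at h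
  exact tG_comm D S J4.Index.rep_ga (Bool.and_eq_true_iff.2 h.1)

theorem tG_comm_ge : gW D J4.Index.wE * tG D t = tG D t * gW D J4.Index.wE := by
  have h := comm_check
  simp only [Bool.and_eq_true] at h
  exact tG_comm D S (J4.Index.rep_wEl _) (Bool.and_eq_true_iff.2 h.2)

variable (hJ : Cfsg.IsOfJankoFourTypeAt z)
include hJ

theorem rels_ok : ∀ r ∈ Cfsg.Spor.coxRelators Cfsg.Spor.J4.edges ∪
    {r | r ∈ Cfsg.Spor.J4.extra}, FreeGroup.lift (genImg D t) r = 1 := by
  intro r hr
  rcases hr with hr | hr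
  · obtain ⟨a, ha, -⟩ := hr
    simp [Cfsg.Spor.J4.edges, Cfsg.Spor.coxNodes] at ha
  obtain ⟨h1, h2, h3, h4, h5, h6, h7⟩ := rels_L D
  simp only [Cfsg.Spor.J4.extra, Set.mem_setOf_eq, List.mem_cons, List.not_mem_nil, or_false] at hr
  have ht := tG_sq D S
  have hti : (tG D t)⁻¹ = tG D t := inv_eq_of_mul_eq_one_right ht
  rcases hr with rfl | rfl | rfl | rfl | rfl | rfl | rfl | rfl | rfl | rfl | rfl | rfl <;>
    simp only [map_pow, map_mul, map_inv, FreeGroup.lift_apply_of, genImg]
  · exact h1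
  · exact h2
  · exact h3
  · exact h4
  · exact h5
  · exact h6
  · exact h7
  · rw [pow_two]; exact ht
  · have h := tG_comm_ge D S
    have e : gW D J4.Index.wE = D.L J4.M24Iso.gb * D.L J4.M24Iso.ga * D.L J4.M24Iso.gb *
        ((D.L J4.M24Iso.ga * (D.L J4.M24Iso.gb)⁻¹) ^ 2) *
        ((D.L J4.M24Iso.ga * D.L J4.M24Iso.gb) ^ 3) := by
      simp [gW, J4.Index.wEl, J4.Index.lEl, J4.Index.wE, D.L_mul, D.L_inv, D.L_one, pow_succ,
        mul_assoc, List.replicate_succ]
    rw [← e, hti]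
    generalize gW D J4.Index.wE = w at h
    calc tG D t * w⁻¹ * tG D t * w = tG D t * w⁻¹ * (tG D t * w) := by group
      _ = tG D t * w⁻¹ * (w * tG D t) := by rw [h]
      _ = tG D t * tG D t := by group
      _ = 1 := ht
  · have h := tG_comm_ga D S
    rw [hti]
    generalize D.L J4.M24Iso.ga = w at h
    calc tG D t * w⁻¹ * tG D t * w = tG D t * w⁻¹ * (tG D t * w) := by group
      _ = tG D t * w⁻¹ * (w * tG D t) := by rw [h]
      _ = tG D t * tG D t := by group
      _ = 1 := ht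
  · have h := rel_one D S hJ
    simpa [gW, J4.Index.wEl, J4.Index.lEl, J4.Index.wA, D.L_mul, D.L_inv, D.L_one, mul_assoc]
      using h
  · have h := rel_two D S hJ
    simpa [gW, J4.Index.wEl, J4.Index.lEl, J4.Index.wPi, J4.Index.wV, D.L_mul, D.L_inv, D.L_one,
      pow_succ, mul_assoc, List.replicate_succ] using h

/-- the homomorphism is bijective -/
theorem exists_bijective : ∃ φ : Cfsg.Spor.J4 →* G, Function.Bijective φ := by
  let φ : Cfsg.Spor.J4 →* G := PresentedGroup.toGroup (rels_ok D S hJ)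
  have hφ : ∀ g, φ (J4Cent.gen g) = genImg D t g := fun g => PresentedGroup.toGroup.of (rels_ok D S hJ)
  refine ⟨φ, bijective_of_hom hJ D φ (hφ .x) (hφ .y) ?_ ?_⟩
  all_goals
    obtain ⟨hm, hcl⟩ := marked D S hJ
    have hz : φ J4Cent.z = D.vm mVec := by
      have hl : ∀ i < 4, φ (J4Cent.vals.getD i 1) =
          ([genImg D t .x, genImg D t .y, genImg D t .t, (genImg D t .y)⁻¹]).getD i 1 := by
        intro i hi
        rw [J4Cent.vals, foldl_addW_getD _ _ (by simpa using hi)]
        interval_cases i <;> simp [hφ]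
      rw [← mark_eq, map_list_prod, List.map_map, ← hm]
      simp only [markW, List.replicate_succ, List.replicate_zero, List.flatten_cons,
        List.flatten_nil, List.cons_append, List.nil_append, List.map_cons, List.map_nil,
        Function.comp_apply, hl _ (show (0 : ℕ) < 4 by norm_num),
        hl _ (show (1 : ℕ) < 4 by norm_num), hl _ (show (2 : ℕ) < 4 by norm_num),
        hl _ (show (3 : ℕ) < 4 by norm_num)]
      simp [genImg, gW, J4.Index.wEl, J4.Index.lEl, J4.Index.wH, D.L_mul, D.L_inv, D.L_one,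
        pow_succ, mul_assoc, List.replicate_succ, ga_inv]
  · rw [hz]; exact D.vm_mem _
  · rw [hz]; exact hcl

end CfsgLib.Spor.JankoFourIso
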