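import Cfsg.Agent.Lib.Spor.JankoFourIso.RelDefs

/-!
Kernel checks for the second long relation.
-/

set_option autoImplicit false
set_option maxRecDepth 100000
set_option maxHeartbeats 4000000

namespace CfsgLib.Spor.JankoFourIso

open CfsgLib.Spor CfsgLib.Spor.JankoFourCentral CfsgLib.Spor.JankoFourPentad

theorem two_words : (ok3 aTwo && Nat.beq aTwo.1 0 &&
    Nat.beq (compP (J4.pWord J4.Index.wPi) eP) (compP aTwo.2.1 eP) &&
    conjWord J4.Index.wV hTwo && conjWord [] (perm3 kP kPi)) = true := by decide +kernel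

theorem two_ok : (rTwo.all Ltr.ok && xTwo.all Ltr.ok && uTwo.all Ltr.ok && ok3 naTwo && ok3 ntTwo &&
    ok3 nxTwo && ok3 hTwo && fixW uTwo (vec cB)) = true := by decide +kernel

theorem two_a : trivTwo cA qA cB qB (rTwo ++ [Ltr.el aTwo] ++ invW rTwo ++
    [Ltr.el (inv3 naTwo)]) = true := by decide +kernel

theorem two_t : (trivAtC cA qA (palW rTwo (perm3 kP kPi) ++ [Ltr.el (inv3 ntTwo)]) &&
    duadCert wTee dTee (mul3 (vec cA) ntTwo)) = true := by decide +kernel

theorem two_h : trivAtC cB qB (palW rTwo hTwo ++ invW xTwo) = true := by decide +kernel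

theorem two_x : (trivTwo cC qC cD qD (uTwo ++ xTwo ++ invW uTwo ++ [Ltr.el (inv3 nxTwo)]) &&
    duadCert wEx dEx (mul3 (vec cB) nxTwo)) = true := by decide +kernel

theorem two_final : trivTwo cC qC cD qD (([Ltr.el (mul3 naTwo ntTwo)] ++ xTwo) ++
    ([Ltr.el (mul3 naTwo ntTwo)] ++ xTwo)) = true := by decide +kernel

end CfsgLib.Spor.JankoFourIso
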