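import Cfsg.Agent.Lib.Spor.JankoFourIso.RelDefs

/-!
Kernel checks for the marked involution.
-/

set_option autoImplicit false
set_option maxRecDepth 100000
set_option maxHeartbeats 4000000

namespace CfsgLib.Spor.JankoFourIso

open CfsgLib.Spor CfsgLib.Spor.JankoFourCentral CfsgLib.Spor.JankoFourPentad

theorem vec_vec0 : vecCert cVec qVec rVec hVec0 aVec0 bVec0 = true := by decide +kernel
theorem vec_vec1 : vecCert cVec qVec rVec hVec1 aVec1 bVec1 = true := by decide +kernel
theorem vec_vec2 : vecCert cVec qVec rVec hVec2 aVec2 bVec2 = true := by decide +kernel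

theorem sum_vec : (inCode (aVec0 ^^^ aVec1 ^^^ aVec2 ^^^ mVec) && rVec.all Ltr.ok && evB mVec &&
    Nat.beq (pop mVec) 4 && fixW rVec (vec mVec)) = true := by decide +kernel

theorem word_vec : (conjWord (J4.Index.wH ++ [3]) hVec0 && conjWord (J4.Index.wH ++ [2]) hVec1 &&
    conjWord J4.Index.wH hVec2) = true := by decide +kernel

end CfsgLib.Spor.JankoFourIso
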