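import Cfsg.Agent.Lib.Spor.JankoFourIso.RelChkOne
import Cfsg.Agent.Lib.Spor.JankoFourIso.RelChkVec
import Cfsg.Agent.Lib.Spor.JankoFourIso.RelChkTwo

/-!
Kernel checks of the certificates of the relations.
-/
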