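import Cfsg.Agent.Lib.Spor.JankoFourIso.RelDefs

/-!
Kernel checks for the first long relation.
-/

set_option autoImplicit false
set_option maxRecDepth 100000
set_option maxHeartbeats 4000000

namespace CfsgLib.Spor.JankoFourIso

open CfsgLib.Spor CfsgLib.Spor.JankoFourCentral CfsgLib.Spor.JankoFourPentad

theorem vec_one0 : vecCert cOne qOne rOne hOne0 aOne0 bOne0 = true := by decide +kernel
theorem vec_one1 : vecCert cOne qOne rOne hOne1 aOne1 bOne1 = true := by decide +kernel
theorem vec_one2 : vecCert cOne qOne rOne hOne2 aOne2 bOne2 = true := by decide +kernel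

theorem sum_one : (inCode (aOne0 ^^^ aOne1 ^^^ aOne2) && rOne.all Ltr.ok) = true := by
  decide +kernel

theorem word_one : (conjWord (J4.Index.wA ++ [3]) hOne0 && conjWord (J4.Index.wA ++ [2]) hOne1 &&
    conjWord J4.Index.wA hOne2) = true := by decide +kernel

end CfsgLib.Spor.JankoFourIso
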