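import Cfsg.Agent.Lib.Spor.JankoFourIso.Facts
import Cfsg.Agent.Lib.Spor.JankoFourIso.RelData

/-!
The certificates of the relations as Boolean functions.
-/

set_option autoImplicit false
set_option maxRecDepth 100000
set_option maxHeartbeats 4000000

namespace CfsgLib.Spor.JankoFourIso

open CfsgLib.Spor CfsgLib.Spor.JankoFourCentral CfsgLib.Spor.JankoFourPentad

/-- a conjugate of the involution goes to a vector -/
noncomputable def vecCert (c : ℕ) (q : P3) (R : List Ltr) (h : P3) (a b : ℕ) : Bool :=
  R.all Ltr.ok && ok3 h && evB a && evB b && Nat.beq (pop b) 2 && inCode (a ^^^ c ^^^ b) &&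
    trivAtC c q (palW R h ++ [Ltr.el (vec a)])

/-- the conjugator matches a word -/
noncomputable def conjWord (w : List ℕ) (p : P3) : Bool :=
  ok3 p && Nat.beq p.1 0 && Nat.beq (compP (compP (J4.pWord w) p.2.1) eP) (compP kP eP)

end CfsgLib.Spor.JankoFourIso
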