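import Cfsg.Agent.Lib.Spor.JankoFourIso.RelChecks

/-!
The relations of the fourth Janko group hold for the lift of `M24` and the conjugate of the trio
involution.
-/

set_option autoImplicit false
set_option maxRecDepth 100000
set_option linter.unusedSectionVars false

namespace CfsgLib.Spor.JankoFourIso

open Cfsg CfsgLib.Spor CfsgLib.Spor.JankoFourCentral CfsgLib.Spor.JankoFourPentad
open scoped Pointwise

variable {G : Type*} [Group G] {z : G} {A : Type*} [AddCommGroup A] (D : Eleven z A)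

/-- the image of the third generator -/
noncomputable def tG (t : G) : G := D.L (el kP) * t * (D.L (el kP))⁻¹

/-- the image of a word in the first two generators -/
noncomputable def gW (w : List ℕ) : G := D.L (J4.Index.wEl w)

theorem gW_append (u w : List ℕ) : gW D (u ++ w) = gW D u * gW D w := by
  rw [gW, gW, gW, J4.Index.wEl, J4.Index.wEl, J4.Index.wEl, List.map_append, List.prod_append,
    D.L_mul]

theorem gW_two : gW D [2] = D.L J4.M24Iso.gb := by
  simp [gW, J4.Index.wEl, J4.Index.lEl]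

theorem gW_three : gW D [3] = (D.L J4.M24Iso.gb)⁻¹ := by
  simp [gW, J4.Index.wEl, J4.Index.lEl, D.L_inv]

theorem cube_expand {y T : G} (h : y ^ 3 = 1) :
    (y * T) ^ 3 = y * T * y⁻¹ * (y⁻¹ * T * y) * T := by
  have h2 : y⁻¹ = y * y := inv_eq_of_mul_eq_one_right (by rw [← h, pow_succ, pow_two]; group)
  calc (y * T) ^ 3 = y * T * y * T * y * T := by rw [pow_succ, pow_two]; group
    _ = y * T * y⁻¹ * (y * y * T * y) * T := by group
    _ = _ := by rw [← h2]

theorem ne_conjWord (t : G) {w : List ℕ} {p : P3} (h : conjWord w p = true) :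
    ne D p * t * (ne D p)⁻¹ = (gW D w)⁻¹ * tG D t * gW D w := by
  simp only [conjWord, Bool.and_eq_true, Nat.beq_eq] at h
  obtain ⟨⟨h1, h2⟩, h3⟩ := h
  obtain ⟨-, σ, hσ, -⟩ := Ok.of_ok3 h1
  obtain ⟨-, κ, hκ, -⟩ := Ok.of_ok3 k_ok
  have hl := ((J4.Index.rep_wEl w).mul hσ).mul rep_one
  have hr := hκ.mul rep_one
  rw [mul_one] at hl hr
  rw [show eP = packL (List.range 24) from rfl] at h3
  rw [h3] at hl
  have e : J4.Index.wEl w * σ = κ := Subtype.ext (hl.inj hr)
  have e' : D.L σ = (gW D w)⁻¹ * D.L (el kP) := by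
    rw [show el kP = κ from el_eq hκ, gW, ← D.L_inv, ← D.L_mul, ← e, inv_mul_cancel_left]
  rw [ne_eq D hσ, h2, D.vm_zero, one_mul, e', tG]
  group

variable [Finite G] {t : G} (S : Swap D t) (hJ : Cfsg.IsOfJankoFourTypeAt z)
include S hJ

theorem vecCert_spec {c : ℕ} {q : P3} {R : List Ltr} {h : P3} {a b : ℕ}
    (hc : vecCert c q R h a b = true) :
    valW D t R * (ne D h * t * (ne D h)⁻¹) * (valW D t R)⁻¹ = D.vm a := by
  simp only [vecCert, Bool.and_eq_true, Nat.beq_eq] at hc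
  obtain ⟨⟨⟨⟨⟨⟨hR, -⟩, ha⟩, hb⟩, hpop⟩, hcode⟩, htr⟩ := hc
  obtain ⟨hec, h'⟩ := trivAtC_spec D S hJ htr
  rw [valW_append, valW_el, ne_vec] at h'
  rw [← valW_palW D S hR]
  rcases h' with e | e
  · rw [eq_inv_of_mul_eq_one_left e, D.vm_inv]
  · exfalso
    have e2 : valW D t (palW R h) = D.vm b := by
      rw [eq_mul_inv_of_mul_eq e, D.vm_inv, ← D.vm_xor]
      refine D.vm_eq (hec.xor (ev_of_evB ha)) (ev_of_evB hb) ?_
      rwa [Nat.xor_comm c a]
    refine (D.not_isConj_duad (s := toSet b) (by rw [card_toSet]; exact hpop)).1 ?_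
    rw [D.vs_toSet, ← e2]
    exact isConj_palW D S hR h

theorem prod_of_vecCerts {c a0 a1 a2 b0 b1 b2 : ℕ} {q h0 h1 h2 : P3} {R : List Ltr}
    (e0 : vecCert c q R h0 a0 b0 = true) (e1 : vecCert c q R h1 a1 b1 = true)
    (e2 : vecCert c q R h2 a2 b2 = true) {w : List ℕ}
    (hw : (conjWord (w ++ [3]) h0 && conjWord (w ++ [2]) h1 && conjWord w h2) = true)
    (hy : D.L J4.M24Iso.gb ^ 3 = 1) :
    valW D t R * (D.L J4.M24Iso.gb * ((gW D w)⁻¹ * tG D t * gW D w)) ^ 3 * (valW D t R)⁻¹ =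
      D.vm (a0 ^^^ a1 ^^^ a2) := by
  simp only [Bool.and_eq_true] at hw
  obtain ⟨⟨w0, w1⟩, w2⟩ := hw
  rw [D.vm_xor, D.vm_xor, ← vecCert_spec D S hJ e0, ← vecCert_spec D S hJ e1,
    ← vecCert_spec D S hJ e2, ne_conjWord D t w0, ne_conjWord D t w1, ne_conjWord D t w2,
    gW_append, gW_append, gW_two, gW_three, cube_expand hy]
  group

omit S hJ in
theorem gb_cube : D.L J4.M24Iso.gb ^ 3 = 1 := by
  rw [← Lhom_apply, ← map_pow, J4.M24Iso.gRels.cube, map_one]

/-- the first long relation -/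
theorem rel_one :
    (D.L J4.M24Iso.gb * ((gW D J4.Index.wA)⁻¹ * tG D t * gW D J4.Index.wA)) ^ 3 = 1 := by
  have h := prod_of_vecCerts D S hJ vec_one0 vec_one1 vec_one2 word_one (gb_cube D)
  have hs := sum_one
  simp only [Bool.and_eq_true] at hs
  have hev : ∀ {c a b : ℕ} {q p : P3} {R : List Ltr}, vecCert c q R p a b = true → Ev a := by
    intro c a b q p R hc
    simp only [vecCert, Bool.and_eq_true] at hc
    exact ev_of_evB hc.1.1.1.1.2
  rw [D.vm_eq_one (((hev vec_one0).xor (hev vec_one1)).xor (hev vec_one2)) hs.1] at h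
  exact conj_eq_one_iff.1 h

/-- the marked involution is a vector of sextet type -/
theorem marked :
    (D.L J4.M24Iso.gb * ((gW D J4.Index.wH)⁻¹ * tG D t * gW D J4.Index.wH)) ^ 3 = D.vm mVec ∧
      IsConj z (D.vm mVec) := by
  have h := prod_of_vecCerts D S hJ vec_vec0 vec_vec1 vec_vec2 word_vec (gb_cube D)
  have hs := sum_vec
  simp only [Bool.and_eq_true, Nat.beq_eq] at hs
  obtain ⟨⟨⟨⟨hsum, hR⟩, hm⟩, hpop⟩, hfix⟩ := hs
  have hev : ∀ {c a b : ℕ} {q p : P3} {R : List Ltr}, vecCert c q R p a b = true → Ev a := by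
    intro c a b q p R hc
    simp only [vecCert, Bool.and_eq_true] at hc
    exact ev_of_evB hc.1.1.1.1.2
  refine ⟨?_, ?_⟩
  · rw [D.vm_eq (((hev vec_vec0).xor (hev vec_vec1)).xor (hev vec_vec2)) (ev_of_evB hm) hsum] at h
    have hf := fixW_spec D S hR (ok_vec (ev_of_evB hm)) hfix
    rw [ne_vec, ← mul_inv_eq_iff_eq_mul] at hf
    exact mul_left_cancel (mul_right_cancel (h.trans hf.symm))
  · rw [← D.vs_toSet]
    exact D.isConj_tetrad (by rw [card_toSet]; exact hpop)

/-- the second long relation -/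
theorem rel_two :
    (gW D J4.Index.wPi * tG D t * ((gW D J4.Index.wV)⁻¹ * tG D t * gW D J4.Index.wV)) ^ 2 = 1 := by
  have hw := two_words
  simp only [Bool.and_eq_true, Nat.beq_eq] at hw
  obtain ⟨⟨⟨⟨hoa, ha0⟩, hae⟩, hwh⟩, hwt⟩ := hw
  have hok := two_ok
  simp only [Bool.and_eq_true] at hok
  obtain ⟨⟨⟨⟨⟨⟨⟨hR, hX⟩, hU⟩, hna⟩, hnt⟩, hnx⟩, hhT⟩, hfix⟩ := hok
  set r := valW D t rTwo with hr
  set X := valW D t xTwo with hXd
  -- the first element
  have hA : r * gW D J4.Index.wPi * r⁻¹ = ne D naTwo := by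
    have h := trivTwo_spec D S hJ two_a
    rw [valW_append, valW_append, valW_append, valW_el, valW_el, valW_invW D S hR,
      ne_inv D (Ok.of_ok3 hna), mul_inv_eq_one] at h
    rw [← h]
    obtain ⟨-, σ, hσ, -⟩ := Ok.of_ok3 hoa
    have hl := (J4.Index.rep_wEl J4.Index.wPi).mul rep_one
    have hr' := hσ.mul rep_one
    rw [mul_one] at hl hr'
    rw [show eP = packL (List.range 24) from rfl] at hae
    rw [hae] at hl
    rw [ne_eq D hσ, ha0, D.vm_zero, one_mul, gW,
      show J4.Index.wEl J4.Index.wPi = σ from Subtype.ext (hl.inj hr')]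
  -- the involution
  have hT : r * tG D t * r⁻¹ = ne D ntTwo := by
    have h := two_t
    simp only [Bool.and_eq_true] at h
    rw [← pal_eq_ne D S hJ hnt hR h.1 h.2, valW_palW D S hR, ne_conjWord D t hwt]
    simp [gW, J4.Index.wEl, D.L_one]
    rfl
  -- its conjugate
  have hH : r * ((gW D J4.Index.wV)⁻¹ * tG D t * gW D J4.Index.wV) * r⁻¹ = X := by
    rw [← ne_conjWord D t hwh, ← valW_palW D S hR]
    obtain ⟨hec, h⟩ := trivAtC_spec D S hJ two_h
    rw [valW_append, valW_invW D S hX, mul_inv_eq_one] at h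
    rcases h with h | h
    · exact h
    exfalso
    have hx := two_x
    simp only [Bool.and_eq_true] at hx
    have h' := trivTwo_spec D S hJ hx.1
    rw [valW_append, valW_append, valW_append, valW_el, valW_invW D S hU,
      ne_inv D (Ok.of_ok3 hnx), mul_inv_eq_one] at h'
    refine duadCert_spec D S hx.2 ?_
    have hf := fixW_spec D S hU (ok_vec hec) hfix
    rw [ne_vec] at hf
    rw [ne_mul D (ok_vec hec) (Ok.of_ok3 hnx), ne_vec, ← h']
    refine (isConj_palW D S hR hTwo).trans (isConj_iff.2 ⟨valW D t uTwo, ?_⟩)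
    rw [eq_mul_of_mul_inv_eq h]
    calc valW D t uTwo * (D.vm cB * X) * (valW D t uTwo)⁻¹
        = (valW D t uTwo * D.vm cB) * X * (valW D t uTwo)⁻¹ := by group
      _ = _ := by rw [hf, hXd]; group
  have hF := trivTwo_spec D S hJ two_final
  rw [valW_append, valW_append, valW_el, ne_mul D (Ok.of_ok3 hna) (Ok.of_ok3 hnt), ← hA, ← hT,
    ← hXd, ← hH] at hF
  have h2 : r * (gW D J4.Index.wPi * tG D t *
      ((gW D J4.Index.wV)⁻¹ * tG D t * gW D J4.Index.wV)) ^ 2 * r⁻¹ = 1 := by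
    refine Eq.trans ?_ hF
    rw [pow_two]
    group
  exact conj_eq_one_iff.1 h2

end CfsgLib.Spor.JankoFourIso
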