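import Cfsg.Agent.Lib.Spor.JankoFourPentad.Main

/-!
The involution attached to a trio in a group of Janko-four type, outside the normaliser of the
elementary abelian subgroup of order `2^11`: it centralises the stabiliser of the trio in the
complement and the three-dimensional subspace, and multiplies the six remaining basis vectors of
the vector part by the six basis translations.
-/

set_option autoImplicit false

namespace CfsgLib.Spor.JankoFourIso

open Cfsg CfsgLib.Spor CfsgLib.Spor.JankoFourCentral CfsgLib.Spor.JankoFourPentad

variable {G : Type*} [Group G] {z : G} {A : Type*} [AddCommGroup A]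

/-- the involution of a trio and its action on the subgroup of order `2^15` -/
structure Swap (D : Eleven z A) (t : G) : Prop where
  sq : t * t = 1
  comm_y : D.L (el yP) * t = t * D.L (el yP)
  comm_y2 : D.L (el y2P) * t = t * D.L (el y2P)
  comm_rho : D.L (el rhoP) * t = t * D.L (el rhoP)
  comm_s : D.L (el sP) * t = t * D.L (el sP)
  comm_u : ∀ u ∈ uMasks, D.L (el u) * t = t * D.L (el u)
  comm_z : ∀ a ∈ zGens, D.vm a * t = t * D.vm a
  move : ∀ i < 6, t * D.vm (vMasks.getD (3 + i) 0) * t =
    D.vm (vMasks.getD (3 + i) 0) * D.L (el (uMasks.getD i 0))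
  isConj : IsConj z t
  not_isConj : ∀ v ∈ Zs D, v ≠ 1 → ¬ IsConj z (t * v)

end CfsgLib.Spor.JankoFourIso
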